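import Mathlib
import Cfsg.Agent.H149.Sp.Monster
import Cfsg.Agent.H149.Sp.Th
import Cfsg.Agent.H573.Spor.Lift
import Cfsg.Agent.H524.RegTool
import Cfsg.Agent.NotCT.Orders

/-!
# The Monster: `RegAll`
-/

set_option autoImplicit false

namespace Cfsg.Agent.H587.RegM

open Subgroup Cfsg Cfsg.Agent.H524.DirRed Cfsg.Agent.H524.RegTool
open Cfsg.Agent.MonsterX Cfsg.Agent.H573.Spor Cfsg.Agent.LThreeMB

theorem pull {r N : ℕ} {x : ↥InstData.M.G} (hx : orderOf x = r)
    (hc : Nat.card (centralizer ({x} : Set ↥InstData.M.G)) = N) {G : Type*} [Group G] (h : Spor.IsoM G) :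
    ∃ y : G, orderOf y = r ∧ Nat.card (centralizer ({y} : Set G)) = N := by
  obtain ⟨e⟩ := h
  obtain ⟨f⟩ := Cfsg.Agent.MonsterP.Equiv.equiv
  let g := (e.trans f).symm
  refine ⟨g x, ?_, ?_⟩
  · rw [← hx]
    exact orderOf_injective g.toMonoidHom g.injective x
  · rw [← hc]
    have h1 : centralizer ({g x} : Set G) = (centralizer ({x} : Set ↥InstData.M.G)).map g.toMonoidHom := by
      ext y
      rw [mem_map_equiv, mem_centralizer_singleton_iff, mem_centralizer_singleton_iff]
      constructor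
      · intro h
        apply g.injective
        rw [map_mul, map_mul, g.apply_symm_apply, h]
      · intro h
        have h2 := congrArg g h
        rwa [map_mul, map_mul, g.apply_symm_apply] at h2
    rw [h1]
    exact card_map_of_injective g.injective

theorem exists_seven {G : Type*} [Group G] (h : Spor.IsoM G) :
    ∃ y : G, orderOf y = 7 ∧ Nat.card (centralizer ({y} : Set G)) = 4030387200 * 7 := by
  obtain ⟨x, y, hx, hy, -, hHe, -⟩ := H149.Sp.exists_seven_three
  refine pull hx ?_ h
  rw [H573.Spor.card_XX x, Monster.card_He hHe, hx]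

theorem exists_three {G : Type*} [Group G] (h : Spor.IsoM G) :
    ∃ y : G, orderOf y = 3 ∧ Nat.card (centralizer ({y} : Set G)) = 90745943887872000 * 3 := by
  obtain ⟨x, y, hx, hy, -, -, hTh⟩ := H149.Sp.exists_seven_three
  refine pull hy ?_ h
  rw [H573.Spor.card_XX y, NotCT.Orders.th hTh, hy]

theorem exists_five {G : Type*} [Group G] (h : Spor.IsoM G) :
    ∃ y : G, orderOf y = 5 ∧ Nat.card (centralizer ({y} : Set G)) = 273030912000000 * 5 := by
  obtain ⟨y, hy, hHN⟩ := Monster.exists_five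
  refine pull hy ?_ h
  rw [H573.Spor.card_XX y, NotCT.Orders.hn hHN, hy]

/-- **The Monster.** -/
theorem regAll_m {G : Type*} [Group G] [Finite G] (h : Spor.IsoM G) : RegAll G := by
  have hN := NotCT.Orders.m h
  intro p q hp hq hpq hd
  have hq' : q ∈ [2, 3, 5, 7, 11, 13, 17, 19, 23, 29, 31, 41, 47, 59, 71] := by
    have h1 : q ∣ 2 ^ 46 * 3 ^ 20 * 5 ^ 9 * 7 ^ 6 * 11 ^ 2 * 13 ^ 3 * 17 * 19 * 23 * 29 * 31 * 41 * 47 * 59 * 71 := by
      rw [hN] at hd
      have h2 : 808017424794512875886459904961710757005754368000000000 = 2 ^ 46 * 3 ^ 20 * 5 ^ 9 * 7 ^ 6 * 11 ^ 2 *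
        13 ^ 3 * 17 * 19 * 23 * 29 * 31 * 41 * 47 * 59 * 71 := by norm_num
      rwa [← h2]
    simp only [hq.dvd_mul] at h1
    have hpr : ∀ a : ℕ, a.Prime → q ∣ a → q = a := fun a ha h2 => (Nat.prime_dvd_prime_iff_eq hq ha).1 h2
    have hpw : ∀ a n : ℕ, a.Prime → q ∣ a ^ n → q = a := fun a n ha h2 => hpr a ha (hq.dvd_of_dvd_pow h2)
    rcases h1 with (((((((((((((h1 | h1) | h1) | h1) | h1) | h1) | h1) | h1) | h1) | h1) | h1) | h1) | h1) | h1) | h1
    · rw [hpw 2 46 (by norm_num) h1]; simp
    · rw [hpw 3 20 (by norm_num) h1]; simp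
    · rw [hpw 5 9 (by norm_num) h1]; simp
    · rw [hpw 7 6 (by norm_num) h1]; simp
    · rw [hpw 11 2 (by norm_num) h1]; simp
    · rw [hpw 13 3 (by norm_num) h1]; simp
    · rw [hpr 17 (by norm_num) h1]; simp
    · rw [hpr 19 (by norm_num) h1]; simp
    · rw [hpr 23 (by norm_num) h1]; simp
    · rw [hpr 29 (by norm_num) h1]; simp
    · rw [hpr 31 (by norm_num) h1]; simp
    · rw [hpr 41 (by norm_num) h1]; simp
    · rw [hpr 47 (by norm_num) h1]; simp
    · rw [hpr 59 (by norm_num) h1]; simp
    · rw [hpr 71 (by norm_num) h1]; simp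
  have hne : ∀ r : ℕ, r.Prime → r ≠ p → ¬ p ∣ r := fun r hr hrp hc => hrp ((Nat.prime_dvd_prime_iff_eq hp hr).1 hc).symm
  by_cases hp3 : p = 3
  · subst hp3
    by_cases h17 : q = 17
    · subst h17
      obtain ⟨y, hy, hc⟩ := exists_five h
      refine RegB.of_pow (x := y) (a := 1) hq (by rw [hy]; norm_num) (by rw [hN]; norm_num) (by rw [hc]; norm_num)
    · obtain ⟨y, hy, hc⟩ := exists_seven h
      have key : ∃ a, q ^ a ∣ 808017424794512875886459904961710757005754368000000000 ∧ ¬ q ^ a ∣ 4030387200 * 7 := by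
        simp only [List.mem_cons, List.not_mem_nil, or_false] at hq'
        rcases hq' with rfl | rfl | rfl | rfl | rfl | rfl | rfl | rfl | rfl | rfl | rfl | rfl | rfl | rfl | rfl
        · exact ⟨46, by norm_num, by norm_num⟩
        · exact absurd rfl hpq
        · exact ⟨9, by norm_num, by norm_num⟩
        · exact ⟨6, by norm_num, by norm_num⟩
        · exact ⟨2, by norm_num, by norm_num⟩
        · exact ⟨3, by norm_num, by norm_num⟩
        · exact absurd rfl h17
        all_goals exact ⟨1, by norm_num, by norm_num⟩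
      obtain ⟨a, ha, hb⟩ := key
      exact RegB.of_pow (x := y) (a := a) hq (by rw [hy]; norm_num) (by rwa [hN]) (by rwa [hc])
  · by_cases hs : q = 17 ∨ q = 23 ∨ q = 29
    · obtain ⟨y, hy, hc⟩ := exists_three h
      refine RegB.of_pow (x := y) (a := 1) hq (by rw [hy]; exact hne 3 (by norm_num) (Ne.symm hp3)) ?_ ?_
      · rw [hN]
        rcases hs with rfl | rfl | rfl <;> norm_num
      · rw [hc]
        rcases hs with rfl | rfl | rfl <;> norm_num
    · obtain ⟨u, y, -, hy, -, hc⟩ := H149.Sp.exists_m_of_iso h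
      have key : ∃ a, q ^ a ∣ 808017424794512875886459904961710757005754368000000000 ∧
          ¬ q ^ a ∣ 3 * 1255205709190661721292800 := by
        simp only [List.mem_cons, List.not_mem_nil, or_false] at hq'
        rcases hq' with rfl | rfl | rfl | rfl | rfl | rfl | rfl | rfl | rfl | rfl | rfl | rfl | rfl | rfl | rfl
        · exact ⟨46, by norm_num, by norm_num⟩
        · exact ⟨20, by norm_num, by norm_num⟩
        · exact ⟨9, by norm_num, by norm_num⟩
        · exact ⟨6, by norm_num, by norm_num⟩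
        · exact ⟨2, by norm_num, by norm_num⟩
        · exact ⟨3, by norm_num, by norm_num⟩
        · exact absurd (Or.inl rfl) hs
        · exact ⟨1, by norm_num, by norm_num⟩
        · exact absurd (Or.inr (Or.inl rfl)) hs
        · exact absurd (Or.inr (Or.inr rfl)) hs
        all_goals exact ⟨1, by norm_num, by norm_num⟩
      obtain ⟨a, ha, hb⟩ := key
      exact RegB.of_pow (x := y) (a := a) hq (by rw [hy]; exact hne 3 (by norm_num) (Ne.symm hp3)) (by rwa [hN])
        (by rwa [hc])

end Cfsg.Agent.H587.RegM
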