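import Mathlib

/-!
# S4415, part A: an element of order three with one nontrivial Jordan block

`CS ρ R b`: `G = R⟨b⟩`, `b³ = 1`, `R = [R, ⟨b⟩]` a normal solvable `3'`-subgroup, `ρ` a faithful representation of
`G` over the field with three elements, with `im (ρ b - 1)` of dimension two.
`FG b t`: `t`, `t^b`, `t^(b²)` are the involutions of a four-group.
-/

set_option autoImplicit false
set_option linter.unusedSectionVars false

namespace Cfsg.Agent.H587.Cubic

open Module
open scoped commutatorElement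

theorem two_smul_inj {E : Type*} [AddCommGroup E] [Module (ZMod 3) E] {v : E} (h : v + v = 0) : v = 0 := by
  have h1 : (3 : ZMod 3) • v = 0 := by
    have : (3 : ZMod 3) = 0 := rfl
    rw [this, zero_smul]
  have h2 : (3 : ZMod 3) • v = v + v + v := by
    have : (3 : ZMod 3) = 1 + 1 + 1 := rfl
    rw [this, add_smul, add_smul, one_smul]
  rw [h2, h, zero_add] at h1
  exact h1

section

variable {G : Type*} [Group G] {E : Type*} [AddCommGroup E] [Module (ZMod 3) E]

/-- The commutator space `im (ρ b - 1)`. -/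
def dd (ρ : Representation (ZMod 3) G E) (b : G) : Submodule (ZMod 3) E := LinearMap.range (ρ b - 1)

theorem mem_dd {ρ : Representation (ZMod 3) G E} {b : G} {v : E} : v ∈ dd ρ b ↔ ∃ u, ρ b u - u = v := by
  unfold dd
  rw [LinearMap.mem_range]
  rfl

theorem sub_mem_dd (ρ : Representation (ZMod 3) G E) (b : G) (u : E) : ρ b u - u ∈ dd ρ b :=
  mem_dd.mpr ⟨u, rfl⟩

/-- The setting. -/
structure CS (ρ : Representation (ZMod 3) G E) (R : Subgroup G) (b : G) : Prop where
  faith : ∀ g : G, (∀ v, ρ g v = v) → g = 1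
  nor : R.Normal
  b3 : b * b * b = 1
  gen : R ⊔ Subgroup.zpowers b = ⊤
  comm : ⁅R, Subgroup.zpowers b⁆ = R
  r3 : ¬ 3 ∣ Nat.card R
  sol : Group.IsSolvable R
  dim : finrank (ZMod 3) (dd ρ b) = 2

variable {ρ : Representation (ZMod 3) G E} {R : Subgroup G} {b : G}

theorem rho_mul (ρ : Representation (ZMod 3) G E) (g h : G) (v : E) : ρ (g * h) v = ρ g (ρ h v) := by
  rw [map_mul]; rfl

theorem rho_one (ρ : Representation (ZMod 3) G E) (v : E) : ρ 1 v = v := by
  rw [map_one]; rfl

/-- A normal subgroup containing `b` is everything. -/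
theorem CS.eq_top (h : CS ρ R b) {N : Subgroup G} (hN : N.Normal) (hb : b ∈ N) : N = ⊤ := by
  rw [eq_top_iff, ← h.gen, sup_le_iff]
  have hz : Subgroup.zpowers b ≤ N := by rw [Subgroup.zpowers_le]; exact hb
  refine ⟨?_, hz⟩
  rw [← h.comm, Subgroup.commutator_le]
  intro r _ c hc
  rw [commutatorElement_def]
  exact N.mul_mem (hN.conj_mem c (hz hc) r) (N.inv_mem (hz hc))

/-- `b` acts trivially on an invariant subspace: then everything does. -/
theorem CS.trivial_on (h : CS ρ R b) (W : Submodule (ZMod 3) E) (hW : ∀ g : G, ∀ w ∈ W, ρ g w ∈ W)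
    (hb : ∀ w ∈ W, ρ b w = w) : ∀ g : G, ∀ w ∈ W, ρ g w = w := by
  let K : Subgroup G :=
    { carrier := {g | ∀ w ∈ W, ρ g w = w}
      one_mem' := fun w _ => rho_one ρ w
      mul_mem' := by
        intro a c ha hc w hw
        rw [rho_mul, hc w hw, ha w hw]
      inv_mem' := by
        intro a ha w hw
        have h1 := ha _ (hW a⁻¹ w hw)
        rw [← rho_mul, mul_inv_cancel, rho_one] at h1
        exact h1.symm }
  have hK : K.Normal := by
    constructor
    intro n hn g w hw
    rw [rho_mul, rho_mul, hn _ (hW g⁻¹ w hw), ← rho_mul, mul_inv_cancel, rho_one]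
  have h1 := h.eq_top hK hb
  intro g
  have : g ∈ K := by rw [h1]; trivial
  exact this

/-- `b` centralizes a normal subgroup: then everything does. -/
theorem CS.central (h : CS ρ R b) {M : Subgroup G} (hM : M.Normal) (hb : ∀ m ∈ M, b * m = m * b) :
    ∀ g : G, ∀ m ∈ M, g * m = m * g := by
  have hn : (Subgroup.centralizer (M : Set G)).Normal := by
    constructor
    intro n hn g
    rw [Subgroup.mem_centralizer_iff] at hn ⊢
    intro m hm
    have h1 := hn _ (hM.conj_mem m hm g⁻¹)
    rw [inv_inv] at h1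
    calc m * (g * n * g⁻¹) = g * (g⁻¹ * m * g * n) * g⁻¹ := by group
      _ = g * (n * (g⁻¹ * m * g)) * g⁻¹ := by rw [h1]
      _ = g * n * g⁻¹ * m := by group
  have h1 := h.eq_top hn (by
    rw [Subgroup.mem_centralizer_iff]
    intro m hm
    exact (hb m hm).symm)
  intro g m hm
  have h2 : g ∈ Subgroup.centralizer (M : Set G) := by rw [h1]; trivial
  exact (Subgroup.mem_centralizer_iff.mp h2 m hm).symm

theorem CS.b_ne (h : CS ρ R b) : b ≠ 1 := by
  rintro rfl
  have h1 := h.dim
  have h2 : dd ρ (1 : G) = ⊥ := by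
    rw [eq_bot_iff]
    intro v hv
    obtain ⟨u, rfl⟩ := mem_dd.mp hv
    rw [rho_one, sub_self]
    exact Submodule.zero_mem _
  rw [h2, finrank_bot] at h1
  exact absurd h1 (by norm_num)

theorem CS.rho_b3 (h : CS ρ R b) (v : E) : ρ b (ρ b (ρ b v)) = v := by
  rw [← rho_mul, ← rho_mul, h.b3, rho_one]

/-- Three independent subspaces permuted by `b` have dimension at most one. -/
theorem CS.three (h : CS ρ R b) [FiniteDimensional (ZMod 3) E] (U : Submodule (ZMod 3) E)
    (hind : ∀ u ∈ U, ∀ v ∈ U, ∀ w ∈ U, u + ρ b v + ρ b (ρ b w) = 0 → u = 0 ∧ v = 0 ∧ w = 0) :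
    finrank (ZMod 3) U ≤ 1 := by
  let f : U × U →ₗ[ZMod 3] dd ρ b :=
    { toFun := fun p => ⟨(ρ b p.1 - p.1) + (ρ b (ρ b p.2) - ρ b p.2),
        add_mem (sub_mem_dd ρ b _) (sub_mem_dd ρ b _)⟩
      map_add' := by
        intro p q
        apply Subtype.ext
        simp only [Prod.fst_add, Prod.snd_add, Submodule.coe_add, map_add]
        abel
      map_smul' := by
        intro c p
        apply Subtype.ext
        simp only [Prod.smul_fst, Prod.smul_snd, Submodule.coe_smul, map_smul, RingHom.id_apply]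
        rw [smul_add, smul_sub, smul_sub] }
  have hf : Function.Injective f := by
    rw [injective_iff_map_eq_zero]
    rintro ⟨u, v⟩ huv
    have h1 : (ρ b u - u : E) + (ρ b (ρ b v) - ρ b v) = 0 := congrArg Subtype.val huv
    have h2 : (-(u : E)) + ρ b ((u : E) - v) + ρ b (ρ b (v : E)) = 0 := by
      rw [map_sub, ← h1]; abel
    obtain ⟨h3, -, h4⟩ := hind (-(u : E)) (neg_mem u.2) ((u : E) - v) (sub_mem u.2 v.2) v v.2 h2
    have h5 : u = 0 := Subtype.ext (neg_eq_zero.mp h3)
    have h6 : v = 0 := Subtype.ext h4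
    rw [h5, h6]; rfl
  have h1 := LinearMap.finrank_le_finrank_of_injective hf
  rw [Module.finrank_prod, h.dim] at h1
  omega

/-- If such subspaces are nonzero, they contain the commutator space in their sum. -/
theorem CS.dd_le (h : CS ρ R b) [FiniteDimensional (ZMod 3) E] (u : E)
    (hind : ∀ c d e : ZMod 3, c • u + d • ρ b u + e • ρ b (ρ b u) = 0 → c = 0 ∧ d = 0 ∧ e = 0) :
    ∀ v ∈ dd ρ b, ∃ c d e : ZMod 3, v = c • u + d • ρ b u + e • ρ b (ρ b u) := by
  have hli : LinearIndependent (ZMod 3) ![ρ b u - u, ρ b (ρ b u) - ρ b u] := by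
    rw [LinearIndependent.pair_iff]
    intro s t hst
    have h1 : (-s) • u + (s - t) • ρ b u + t • ρ b (ρ b u) = 0 := by
      rw [← hst, smul_sub, smul_sub, sub_smul, neg_smul]; abel
    obtain ⟨h2, -, h4⟩ := hind _ _ _ h1
    exact ⟨neg_eq_zero.mp h2, h4⟩
  have hspan : Submodule.span (ZMod 3) (Set.range ![ρ b u - u, ρ b (ρ b u) - ρ b u]) = dd ρ b := by
    apply Submodule.eq_of_le_of_finrank_eq
    · rw [Submodule.span_le]
      rintro _ ⟨i, rfl⟩
      fin_cases i
      · exact sub_mem_dd ρ b _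
      · exact sub_mem_dd ρ b _
    · rw [finrank_span_eq_card hli, h.dim]
      rfl
  intro v hv
  rw [← hspan, Submodule.mem_span_range_iff_exists_fun] at hv
  obtain ⟨c, hc⟩ := hv
  refine ⟨-c 0, c 0 - c 1, c 1, ?_⟩
  rw [← hc, Fin.sum_univ_two]
  simp only [Matrix.cons_val_zero, Matrix.cons_val_one]
  rw [smul_sub, smul_sub, sub_smul, neg_smul]
  abel

end

end Cfsg.Agent.H587.Cubic
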