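import Mathlib
import Cfsg.Agent.H587.CubicC

/-!
# S4415, part D: normal abelian subgroups of order prime to 6 are trivial
-/

set_option autoImplicit false
set_option linter.unusedSectionVars false
set_option linter.unusedVariables false

namespace Cfsg.Agent.H587.Cubic

open Module
open scoped commutatorElement

variable {G : Type*} [Group G] {E : Type*} [AddCommGroup E] [Module (ZMod 3) E] [Finite E]
variable {ρ : Representation (ZMod 3) G E} {R : Subgroup G} {b t : G}

theorem card_end_units (W : Type*) [AddCommGroup W] [Module (ZMod 3) W] [Finite W] :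
    Nat.card (Module.End (ZMod 3) W)ˣ =
      ∏ i : Fin (finrank (ZMod 3) W), (3 ^ finrank (ZMod 3) W - 3 ^ (i : ℕ)) := by
  have : Module.Finite (ZMod 3) W := Module.Finite.of_finite
  have : Fact (Nat.Prime 3) := ⟨Nat.prime_three⟩
  let bs := Module.finBasis (ZMod 3) W
  have e : (Module.End (ZMod 3) W)ˣ ≃* GL (Fin (finrank (ZMod 3) W)) (ZMod 3) :=
    Units.mapEquiv (LinearMap.toMatrixAlgEquiv bs).toMulEquiv
  rw [Nat.card_congr e.toEquiv, Matrix.card_GL_field, ZMod.card]

/-- An element of order prime to 6 acts trivially on an invariant subspace of dimension at most two. -/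
theorem small_trivial (W : Submodule (ZMod 3) E) (hd : finrank (ZMod 3) W ≤ 2) (g : G)
    (hW : ∀ w ∈ W, ρ g w ∈ W) {m : ℕ} (hm : g ^ m = 1) (hcop : Nat.Coprime m 6) :
    ∀ w ∈ W, ρ g w = w := by
  have hpow : ∀ (k : ℕ) (v : E), ((ρ g) ^ k) v = ρ (g ^ k) v := by
    intro k v; rw [← map_pow]
  let f : Module.End (ZMod 3) W := (ρ g).restrict hW
  have hf : ∀ (k : ℕ) (w : W), ((f ^ k) w : E) = ρ (g ^ k) w := by
    intro k
    induction k with
    | zero => intro w; rw [pow_zero, pow_zero, rho_one]; rfl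
    | succ k ih =>
      intro w
      rw [pow_succ, pow_succ, Module.End.mul_apply, ih, rho_mul]
      rfl
  have hfm : f ^ m = 1 := by
    ext w
    rw [hf, hm, rho_one]; rfl
  have hm0 : m ≠ 0 := by
    rintro rfl
    exact absurd hcop (by decide)
  let u : (Module.End (ZMod 3) W)ˣ := Units.ofPowEqOne f m hfm hm0
  have hum : u ^ m = 1 := by
    apply Units.ext
    rw [Units.val_pow_eq_pow_val]
    exact hfm
  have hu48 : u ^ 48 = 1 := by
    have h1 : Nat.card (Module.End (ZMod 3) W)ˣ ∣ 48 := by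
      rw [card_end_units]
      interval_cases hk : finrank (ZMod 3) W
      · simp
      · simp
      · rw [Fin.prod_univ_two]; decide
    obtain ⟨k, hk⟩ := h1
    rw [hk, pow_mul, pow_card_eq_one', one_pow]
  have hord : orderOf u = 1 := by
    have h1 := orderOf_dvd_of_pow_eq_one hum
    have h2 := orderOf_dvd_of_pow_eq_one hu48
    have h3 : Nat.Coprime m 48 := by
      have : (48 : ℕ) = 2 ^ 3 * 6 := by norm_num
      rw [this]
      apply Nat.Coprime.mul_right _ hcop
      apply Nat.Coprime.pow_right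
      exact Nat.Coprime.coprime_dvd_right (by norm_num) hcop
    exact Nat.eq_one_of_dvd_coprimes h3 h1 h2
  rw [orderOf_eq_one_iff] at hord
  have hf1 : f = 1 := congrArg Units.val hord
  intro w hw
  have := LinearMap.congr_fun hf1 ⟨w, hw⟩
  exact congrArg Subtype.val this

theorem decomp (s : G) (hs : s * s = 1) (v : E) :
    ∃ v₁ v₂ : E, v = v₁ + v₂ ∧ ρ s v₁ = v₁ ∧ ρ s v₂ = -v₂ := by
  refine ⟨(2 : ZMod 3) • (v + ρ s v), (2 : ZMod 3) • (v - ρ s v), ?_, ?_, ?_⟩
  · rw [← smul_add]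
    have : v + ρ s v + (v - ρ s v) = (2 : ZMod 3) • v := by
      rw [two_smul]; abel
    rw [this, smul_smul]
    have : (2 : ZMod 3) * 2 = 1 := by decide
    rw [this, one_smul]
  · rw [map_smul, map_add, ← rho_mul, hs, rho_one, add_comm]
  · rw [map_smul, map_sub, ← rho_mul, hs, rho_one, ← smul_neg, neg_sub]

/-- The `-1`-space of `t` is two-dimensional. -/
theorem CS.neg_space (h : CS ρ R b) (hq : FG b t) {e : E} (he : e ∈ l1 ρ b t) (he0 : e ≠ 0) {v : E}
    (hv : ρ t v = -v) : ∃ c d : ZMod 3, v = c • ρ b e + d • ρ b (ρ b e) := by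
  have hb := h.b3
  obtain ⟨v₁, v₂, hv12, h1, h2⟩ := decomp (ρ := ρ) (cj b t) (hq.next hb).sq v
  -- `t` preserves the decomposition
  have ht1 : ρ t v₁ = -v₁ ∧ ρ t v₂ = -v₂ := by
    have e1 : ρ t v₁ + v₁ + (ρ t v₂ + v₂) = 0 := by
      have : ρ t v + v = 0 := by rw [hv]; abel
      rw [hv12, map_add] at this
      rw [← this]; abel
    have e2 : ρ (cj b t) (ρ t v₁ + v₁) = ρ t v₁ + v₁ := by
      rw [map_add, ← rho_mul, ← hq.comm12 hb, rho_mul, h1]
    have e3 : ρ (cj b t) (ρ t v₂ + v₂) = -(ρ t v₂ + v₂) := by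
      rw [map_add, ← rho_mul, ← hq.comm12 hb, rho_mul, h2, map_neg]; abel
    have e4 : (ρ t v₁ + v₁) + -(ρ t v₂ + v₂) = 0 := by
      have := congrArg (ρ (cj b t)) e1
      rw [map_add, e2, e3, map_zero] at this
      exact this
    have e5 : ρ t v₁ + v₁ = 0 := by
      apply two_smul_inj
      calc ρ t v₁ + v₁ + (ρ t v₁ + v₁) = (ρ t v₁ + v₁ + (ρ t v₂ + v₂)) +
            ((ρ t v₁ + v₁) + -(ρ t v₂ + v₂)) := by abel
        _ = 0 := by rw [e1, e4, add_zero]
    have e6 : ρ t v₂ + v₂ = 0 := by rw [e5, zero_add] at e1; exact e1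
    exact ⟨eq_neg_of_add_eq_zero_left e5, eq_neg_of_add_eq_zero_left e6⟩
  -- `v₁` is in the second line, `v₂` in the third
  have hback : ∀ w, w ∈ ln ρ (cj b t) t → ∃ c : ZMod 3, w = c • ρ b e := by
    intro w hw
    have h3 := ln_cj (ρ := ρ) b⁻¹ hw
    have h4 : cj b⁻¹ (cj b t) = t := by unfold cj; group
    have h5 : cj b⁻¹ t = cj b (cj b t) := by
      have : t = cj b (cj b (cj b t)) := (cj_three hb t).symm
      conv_lhs => rw [this]
      unfold cj; group
    rw [h4, h5] at h3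
    have h6 : ρ b⁻¹ w ∈ l1 ρ b t := by
      refine ⟨h3.1, ?_⟩
      have h7 : cj b t = t * cj b (cj b t) := by
        rw [← hq.mul_eq hb, ← mul_assoc, hq.sq, one_mul]
      have h8 : ρ (t * cj b (cj b t)) (ρ b⁻¹ w) = -(ρ b⁻¹ w) := by
        rw [rho_mul, h3.2, map_neg, h3.1]
      rwa [← h7] at h8
    obtain ⟨c, hc⟩ := h.line hq he he0 h6
    refine ⟨c, ?_⟩
    have h9 := ρ.self_inv_apply b w
    rw [hc, map_smul] at h9
    exact h9.symm
  obtain ⟨c, hc⟩ := hback v₁ ⟨h1, ht1.1⟩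
  have hq3 : ρ (cj b (cj b t)) v₂ = v₂ := by
    rw [← hq.mul_eq hb, rho_mul, h2, map_neg, ht1.2, neg_neg]
  have h10 : ρ b v₂ ∈ l1 ρ b t := by
    have h11 := ln_cj (ρ := ρ) b (show v₂ ∈ ln ρ (cj b (cj b t)) t from ⟨hq3, ht1.2⟩)
    rw [cj_three hb] at h11
    exact h11
  obtain ⟨d, hd⟩ := h.line hq he he0 h10
  refine ⟨c, d, ?_⟩
  have h12 : v₂ = d • ρ b (ρ b e) := by
    have h13 := h.rho_b3 v₂
    rw [hd, map_smul, map_smul] at h13
    exact h13.symm
  rw [hv12, hc, h12]

/-- (L1) -/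
theorem CS.fixed_inverted (h : CS ρ R b) (hq : FG b t) {n : G} {m : ℕ} (hm : n ^ m = 1)
    (hcop : Nat.Coprime m 6) (h1 : t * n = n * t) (h2 : cj b t * n = n⁻¹ * cj b t) : n = 1 := by
  have hb := h.b3
  obtain ⟨e, he, he0⟩ := h.exists_line hq
  -- the `-1`-space of `t`
  let F : Submodule (ZMod 3) E :=
    { carrier := {v | ρ t v = -v}
      zero_mem' := by show ρ t (0 : E) = -0; simp
      add_mem' := by
        intro a c ha hc
        have ha' : ρ t a = -a := ha
        have hc' : ρ t c = -c := hc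
        show ρ t (a + c) = -(a + c)
        rw [map_add, ha', hc']; abel
      smul_mem' := by
        intro k a ha
        have ha' : ρ t a = -a := ha
        show ρ t (k • a) = -(k • a)
        rw [map_smul, ha', smul_neg] }
  have hFd : finrank (ZMod 3) F ≤ 2 := by
    have hle : F ≤ Submodule.span (ZMod 3) (Set.range ![ρ b e, ρ b (ρ b e)]) := by
      intro v hv
      obtain ⟨c, d, rfl⟩ := h.neg_space hq he he0 hv
      apply Submodule.add_mem
      · exact Submodule.smul_mem _ _ (Submodule.subset_span ⟨0, rfl⟩)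
      · exact Submodule.smul_mem _ _ (Submodule.subset_span ⟨1, rfl⟩)
    have hfin : Module.Finite (ZMod 3) (Submodule.span (ZMod 3) (Set.range ![ρ b e, ρ b (ρ b e)])) :=
      Module.Finite.of_finite
    refine (Submodule.finrank_mono hle).trans ?_
    refine (finrank_range_le_card _).trans ?_
    rw [Fintype.card_fin]
  have hFn : ∀ w ∈ F, ρ n w = w := by
    apply small_trivial F hFd n _ hm hcop
    intro w hw
    have hw' : ρ t w = -w := hw
    show ρ t (ρ n w) = -(ρ n w)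
    rw [← rho_mul, h1, rho_mul, hw', map_neg]
  -- the image of `n² - 1`
  let X : Submodule (ZMod 3) E := Submodule.span (ZMod 3) (Set.range ![e, ρ n e])
  have heX : e ∈ X := Submodule.subset_span ⟨0, rfl⟩
  have hneX : ρ n e ∈ X := Submodule.subset_span ⟨1, rfl⟩
  have hXd : finrank (ZMod 3) X ≤ 2 := by
    refine (finrank_range_le_card _).trans ?_
    rw [Fintype.card_fin]
  have hcomm_inv : t * n⁻¹ = n⁻¹ * t := by
    calc t * n⁻¹ = n⁻¹ * (n * t) * n⁻¹ := by group
      _ = n⁻¹ * (t * n) * n⁻¹ := by rw [h1]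
      _ = n⁻¹ * t := by group
  have hplus : ∀ v, ρ t v = v → ρ (cj b t) v - v ∈ l1 ρ b t := by
    intro v hv
    constructor
    · rw [map_sub, hv, ← rho_mul, hq.comm12 hb, rho_mul, hv]
    · rw [map_sub, ← rho_mul, (hq.next hb).sq, rho_one]; abel
  have hnn : n * n = n * cj b t * n⁻¹ * cj b t := by
    have h3 : cj b t * n * cj b t = n⁻¹ := by
      rw [h2, mul_assoc, (hq.next hb).sq, mul_one]
    have h4 : cj b t * n⁻¹ * cj b t = n := by
      rw [← h3]
      calc cj b t * (cj b t * n * cj b t) * cj b t = (cj b t * cj b t) * n * (cj b t * cj b t) := by group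
        _ = n := by rw [(hq.next hb).sq, one_mul, mul_one]
    calc n * n = n * (cj b t * n⁻¹ * cj b t) := by rw [h4]
      _ = _ := by group
  have hrange : ∀ v : E, ρ (n * n) v - v ∈ X := by
    intro v
    obtain ⟨v₁, v₂, rfl, hv1, hv2⟩ := decomp (ρ := ρ) t hq.sq v
    have e2 : ρ (n * n) v₂ = v₂ := by rw [rho_mul, hFn v₂ hv2, hFn v₂ hv2]
    -- on `v₁`
    obtain ⟨c, hc⟩ := h.line hq he he0 (hplus v₁ hv1)
    have hc' : ρ (cj b t) v₁ = v₁ + c • e := by rw [← hc]; abel
    set u := ρ n⁻¹ (v₁ + c • e) with hu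
    have hu1 : ρ t u = u := by
      rw [hu, ← rho_mul, hcomm_inv, rho_mul, map_add, map_smul, hv1, he.1]
    obtain ⟨d, hd⟩ := h.line hq he he0 (hplus u hu1)
    have hd' : ρ (cj b t) u = u + d • e := by rw [← hd]; abel
    have e1 : ρ (n * n) v₁ = v₁ + c • e + d • ρ n e := by
      rw [hnn, rho_mul, hc', rho_mul, rho_mul, ← hu, hd', map_add, map_smul, hu, ρ.self_inv_apply]
    rw [map_add, e1, e2]
    have : v₁ + c • e + d • ρ n e + v₂ - (v₁ + v₂) = c • e + d • ρ n e := by abel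
    rw [this]
    exact X.add_mem (X.smul_mem _ heX) (X.smul_mem _ hneX)
  have hXinv : ∀ w ∈ X, ρ (n * n) w ∈ X := by
    intro w hw
    have := X.add_mem (hrange w) hw
    rwa [sub_add_cancel] at this
  have hm2 : (n * n) ^ m = 1 := by
    rw [← sq, ← pow_mul, mul_comm, pow_mul, hm, one_pow]
  have hXtriv := small_trivial X hXd (n * n) hXinv hm2 hcop
  -- `(n²)³ = 1`
  have h6 : (n * n) ^ 3 = 1 := by
    apply h.faith
    intro v
    obtain ⟨x, hx⟩ : ∃ x, ρ (n * n) v - v = x := ⟨_, rfl⟩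
    have hxX : x ∈ X := hx ▸ hrange v
    have e1 : ρ (n * n) v = v + x := by rw [← hx]; abel
    have e2 : ρ (n * n) (v + x) = v + x + x := by rw [map_add, e1, hXtriv x hxX]
    have e3 : ρ (n * n) (v + x + x) = v + x + x + x := by rw [map_add, e2, hXtriv x hxX]
    have e4 : (n * n) ^ 3 = (n * n) * ((n * n) * (n * n)) := by
      rw [pow_succ, sq, mul_assoc]
    rw [e4, rho_mul ρ (n * n), rho_mul ρ (n * n), e1, e2, e3]
    have e5 : x + x + x = 0 := by
      have h7 : (3 : ZMod 3) • x = 0 := by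
        have : (3 : ZMod 3) = 0 := rfl
        rw [this, zero_smul]
      have h8 : (3 : ZMod 3) • x = x + x + x := by
        have : (3 : ZMod 3) = 1 + 1 + 1 := rfl
        rw [this, add_smul, add_smul, one_smul]
      rw [← h8, h7]
    calc v + x + x + x = v + (x + x + x) := by abel
      _ = v := by rw [e5, add_zero]
  have h7 : n ^ 6 = 1 := by
    rw [← sq, ← pow_mul] at h6
    exact h6
  have h8 : orderOf n = 1 :=
    Nat.eq_one_of_dvd_coprimes hcop (orderOf_dvd_of_pow_eq_one hm) (orderOf_dvd_of_pow_eq_one h7)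
  exact orderOf_eq_one_iff.mp h8

/-- Elements of an abelian normal subgroup of order prime to 6 commute with the four-group. -/
theorem CS.odd_comm (h : CS ρ R b) (hq : FG b t) (M : Subgroup G) (hM : M.Normal)
    (hab : ∀ x ∈ M, ∀ y ∈ M, x * y = y * x) {m : ℕ} (hm : ∀ x ∈ M, x ^ m = 1)
    (hcop : Nat.Coprime m 6) {u : G} (hu : u ∈ M) : cj t u = u := by
  have hb := h.b3
  -- the basic vanishing
  have key : ∀ (s : G), FG b s → u * cj s u * (cj (cj b s) u)⁻¹ * (cj (cj b (cj b s)) u)⁻¹ = 1 := by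
    intro s hs
    have a0 := hM.conj_mem u hu s
    have a1 := hM.conj_mem u hu (cj b s)
    have a2 := hM.conj_mem u hu (cj b (cj b s))
    change cj s u ∈ M at a0
    change cj (cj b s) u ∈ M at a1
    change cj (cj b (cj b s)) u ∈ M at a2
    have hv : u * cj s u * (cj (cj b s) u)⁻¹ * (cj (cj b (cj b s)) u)⁻¹ ∈ M :=
      M.mul_mem (M.mul_mem (M.mul_mem hu a0) (M.inv_mem a1)) (M.inv_mem a2)
    have c1 : cj s (cj s u) = u := by rw [cj_cj, hs.sq]; unfold cj; group
    have c2 : cj s (cj (cj b s) u) = cj (cj b (cj b s)) u := by rw [cj_cj, hs.mul_eq hb]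
    have c3 : cj s (cj (cj b (cj b s)) u) = cj (cj b s) u := by
      rw [cj_cj, ← hs.mul_eq hb, ← mul_assoc, hs.sq, one_mul]
    have d1 : cj (cj b s) (cj s u) = cj (cj b (cj b s)) u := by
      rw [cj_cj, ← hs.comm12 hb, hs.mul_eq hb]
    have d2 : cj (cj b s) (cj (cj b s) u) = u := by rw [cj_cj, (hs.next hb).sq]; unfold cj; group
    have d3 : cj (cj b s) (cj (cj b (cj b s)) u) = cj s u := by rw [cj_cj, hs.mul23 hb]
    have i1 := M.inv_mem a1
    have i2 := M.inv_mem a2
    have hfix : cj s (u * cj s u * (cj (cj b s) u)⁻¹ * (cj (cj b (cj b s)) u)⁻¹) =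
        u * cj s u * (cj (cj b s) u)⁻¹ * (cj (cj b (cj b s)) u)⁻¹ := by
      rw [cj_mul, cj_mul, cj_mul, cj_inv, cj_inv, c1, c2, c3, hab _ a0 _ hu, mul_assoc, mul_assoc,
        hab _ i2 _ i1]
      simp only [mul_assoc]
    have hinv : cj (cj b s) (u * cj s u * (cj (cj b s) u)⁻¹ * (cj (cj b (cj b s)) u)⁻¹) =
        (u * cj s u * (cj (cj b s) u)⁻¹ * (cj (cj b (cj b s)) u)⁻¹)⁻¹ := by
      rw [cj_mul, cj_mul, cj_mul, cj_inv, cj_inv, d1, d2, d3]
      simp only [mul_inv_rev, inv_inv]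
      rw [hab _ a1 _ a2]
      simp only [mul_assoc]
      rw [hab _ (M.inv_mem hu) _ (M.inv_mem a0)]
    apply h.fixed_inverted hs (hm _ hv) hcop
    · rw [mul_eq_cj, hfix]
    · rw [mul_eq_cj, hinv]
  have k1 := key t hq
  have k3 := key (cj b (cj b t)) ((hq.next hb).next hb)
  rw [cj_three hb] at k3
  have a0 := hM.conj_mem u hu t
  have a1 := hM.conj_mem u hu (cj b t)
  have a2 := hM.conj_mem u hu (cj b (cj b t))
  change cj t u ∈ M at a0
  change cj (cj b t) u ∈ M at a1
  change cj (cj b (cj b t)) u ∈ M at a2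
  -- the product of `k3` and the version for `cj b t` gives `u ^ 2 = (cj t u) ^ 2`
  have k2 := key (cj b t) (hq.next hb)
  rw [cj_three hb] at k2
  have i0 := M.inv_mem a0
  have i1 := M.inv_mem a1
  have i2 := M.inv_mem a2
  have hsq : (u * (cj t u)⁻¹) ^ 2 = 1 := by
    have e : (u * cj (cj b t) u * (cj (cj b (cj b t)) u)⁻¹ * (cj t u)⁻¹) *
        (u * cj (cj b (cj b t)) u * (cj t u)⁻¹ * (cj (cj b t) u)⁻¹) = (u * (cj t u)⁻¹) ^ 2 := by
      generalize cj (cj b t) u = x at *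
      generalize cj (cj b (cj b t)) u = y at *
      generalize cj t u = z at *
      have hcx : ∀ w ∈ M, x * w = w * x := fun w hw => hab x a1 w hw
      have hcy : ∀ w ∈ M, y * w = w * y := fun w hw => hab y a2 w hw
      have huz := hab u hu _ i0
      calc (u * x * y⁻¹ * z⁻¹) * (u * y * z⁻¹ * x⁻¹) = u * (x * (y⁻¹ * z⁻¹ * u * y * z⁻¹)) * x⁻¹ := by group
        _ = u * ((y⁻¹ * z⁻¹ * u * y * z⁻¹) * x) * x⁻¹ := by
            rw [hcx _ (M.mul_mem (M.mul_mem (M.mul_mem (M.mul_mem i2 i0) hu) a2) i0)]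
        _ = u * (y⁻¹ * (z⁻¹ * u * (y * z⁻¹))) := by group
        _ = u * (y⁻¹ * (z⁻¹ * u * (z⁻¹ * y))) := by rw [hcy _ i0]
        _ = u * (y⁻¹ * ((z⁻¹ * u * z⁻¹) * y)) := by group
        _ = u * (y⁻¹ * (y * (z⁻¹ * u * z⁻¹))) := by
            rw [hcy _ (M.mul_mem (M.mul_mem i0 hu) i0)]
        _ = (u * z⁻¹) ^ 2 := by rw [sq]; group
    rw [← e]
    have k3' : u * cj (cj b (cj b t)) u * (cj t u)⁻¹ * (cj (cj b t) u)⁻¹ = 1 := k3
    have k2' : u * cj (cj b t) u * (cj (cj b (cj b t)) u)⁻¹ * (cj t u)⁻¹ = 1 := k2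
    rw [k2', k3', one_mul]
  have hmem : u * (cj t u)⁻¹ ∈ M := M.mul_mem hu i0
  have h2 : Nat.Coprime m 2 := Nat.Coprime.coprime_dvd_right (by norm_num) hcop
  have h3 : orderOf (u * (cj t u)⁻¹) = 1 :=
    Nat.eq_one_of_dvd_coprimes h2 (orderOf_dvd_of_pow_eq_one (hm _ hmem))
      (orderOf_dvd_of_pow_eq_one hsq)
  rw [orderOf_eq_one_iff, mul_inv_eq_one] at h3
  exact h3.symm

/-- Abelian normal subgroups of `R` of exponent prime to 6 are trivial. -/
theorem CS.odd_trivial [Finite G] (h : CS ρ R b) (hq : FG b t) (M : Subgroup G) (hM : M.Normal)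
    (hMR : M ≤ R) (hab : ∀ x ∈ M, ∀ y ∈ M, x * y = y * x) {m : ℕ} (hm : ∀ x ∈ M, x ^ m = 1)
    (hcop : Nat.Coprime m 6) : M = ⊥ := by
  obtain ⟨e, he, he0⟩ := h.exists_line hq
  apply h.triv_of_line hq he he0 M hM hMR
  intro u hu
  have c1 := h.odd_comm hq M hM hab hm hcop hu
  have c2 := h.odd_comm (hq.next h.b3) M hM hab hm hcop hu
  rcases h.scalar hq he he0 (c := u) (by rw [mul_eq_cj t u, c1]) (by rw [mul_eq_cj (cj b t) u, c2])
    with h1 | h1
  · exact h1
  · exfalso
    have hodd : Odd m := by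
      rw [← Nat.not_even_iff_odd]
      intro hev
      have h2 : Nat.Coprime m 2 := Nat.Coprime.coprime_dvd_right (by norm_num) hcop
      have h3 : (2 : ℕ) ∣ 1 := by
        rw [← h2]; exact Nat.dvd_gcd hev.two_dvd (dvd_refl 2)
      omega
    have h4 : ∀ k : ℕ, ρ (u ^ k) e = (-1 : ZMod 3) ^ k • e := by
      intro k
      induction k with
      | zero => rw [pow_zero, pow_zero, rho_one, one_smul]
      | succ k ih =>
        rw [pow_succ', rho_mul, ih, map_smul, h1, pow_succ, mul_smul, neg_smul, one_smul]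
    have h5 := h4 m
    rw [hm u hu, rho_one, hodd.neg_one_pow, neg_smul, one_smul] at h5
    exact he0 (eq_zero_of_neg h5)

end Cfsg.Agent.H587.Cubic
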