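import Mathlib
import Cfsg.Agent.H587.CubicD

/-!
# S4415, part E: minimal normal subgroups not centralized by `b`
-/

set_option autoImplicit false
set_option linter.unusedSectionVars false
set_option linter.unusedVariables false

namespace Cfsg.Agent.H587.Cubic

open Module
open scoped commutatorElement

section

variable {G : Type*} [Group G]

/-- `M` is not centralized by `b`. -/
def NC (b : G) (M : Subgroup G) : Prop := ∃ m ∈ M, b * m ≠ m * b

/-- An extraspecial normal subgroup. -/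
structure EX (b : G) (R N : Subgroup G) (z : G) : Prop where
  nor : N.Normal
  le : N ≤ R
  nc : NC b N
  mem : z ∈ N
  ne : z ≠ 1
  sq : z * z = 1
  cen : ∀ g, g * z = z * g
  sqs : ∀ x ∈ N, x * x = 1 ∨ x * x = z
  com : ∀ x ∈ N, ∀ y ∈ N, x * y = y * x ∨ x * y = y * x * z
  ctr : ∀ x ∈ N, (∀ y ∈ N, x * y = y * x) → x = 1 ∨ x = z
  min : ∀ M : Subgroup G, M.Normal → M ≤ N → M ≠ N → ∀ g : G, ∀ m ∈ M, g * m = m * g

end

section

variable {G : Type*} [Group G] {E : Type*} [AddCommGroup E] [Module (ZMod 3) E] [Finite E]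
variable {ρ : Representation (ZMod 3) G E} {R : Subgroup G} {b t : G}

/-- The elements of exponent `m` of an abelian subgroup. -/
def tors (N : Subgroup G) (hab : ∀ x ∈ N, ∀ y ∈ N, x * y = y * x) (m : ℕ) : Subgroup G where
  carrier := {x | x ∈ N ∧ x ^ m = 1}
  one_mem' := ⟨N.one_mem, one_pow m⟩
  mul_mem' := by
    rintro a c ⟨h1, h2⟩ ⟨h3, h4⟩
    exact ⟨N.mul_mem h1 h3, by rw [(show Commute a c from hab a h1 c h3).mul_pow, h2, h4, one_mul]⟩
  inv_mem' := by
    rintro a ⟨h1, h2⟩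
    exact ⟨N.inv_mem h1, by rw [inv_pow, h2, inv_one]⟩

theorem mem_tors {N : Subgroup G} {hab : ∀ x ∈ N, ∀ y ∈ N, x * y = y * x} {m : ℕ} {x : G} :
    x ∈ tors N hab m ↔ x ∈ N ∧ x ^ m = 1 := Iff.rfl

theorem tors_normal {N : Subgroup G} (hN : N.Normal) (hab : ∀ x ∈ N, ∀ y ∈ N, x * y = y * x) (m : ℕ) :
    (tors N hab m).Normal := by
  constructor
  rintro x ⟨h1, h2⟩ g
  exact ⟨hN.conj_mem x h1 g, by rw [conj_pow, h2, mul_one, mul_inv_cancel]⟩

/-- An abelian normal subgroup is a 2-group. -/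
theorem CS.abelian_two [Finite G] (h : CS ρ R b) (hq : FG b t) (N : Subgroup G) (hN : N.Normal)
    (hNR : N ≤ R) (hab : ∀ x ∈ N, ∀ y ∈ N, x * y = y * x) : ∃ k : ℕ, ∀ x ∈ N, x ^ (2 ^ k) = 1 := by
  have hN0 : Nat.card N ≠ 0 := Nat.card_pos.ne'
  obtain ⟨k, m, hm, hkm⟩ := Nat.exists_eq_two_pow_mul_odd hN0
  have hcop : Nat.Coprime m 6 := by
    have h2 : Nat.Coprime m 2 := by
      rw [Nat.coprime_comm, Nat.coprime_two_left]
      exact hm
    have h3 : Nat.Coprime m 3 := by
      rw [Nat.coprime_comm, Nat.Prime.coprime_iff_not_dvd Nat.prime_three]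
      intro h3
      apply h.r3
      refine (h3.trans ?_).trans (Subgroup.card_dvd_of_le hNR)
      rw [hkm]
      exact Dvd.intro_left _ rfl
    have : (6 : ℕ) = 2 * 3 := by norm_num
    rw [this]
    exact Nat.Coprime.mul_right h2 h3
  have hbot := h.odd_trivial hq (tors N hab m) (tors_normal hN hab m) (fun x hx => hNR hx.1)
    (fun x hx y hy => hab x hx.1 y hy.1) (m := m) (fun x hx => hx.2) hcop
  refine ⟨k, ?_⟩
  intro x hx
  have h1 : x ^ (2 ^ k) ∈ tors N hab m := by
    refine ⟨N.pow_mem hx _, ?_⟩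
    rw [← pow_mul, ← hkm]
    have h2 := pow_card_eq_one' (x := (⟨x, hx⟩ : N))
    have h3 := congrArg Subtype.val h2
    exact h3
  rw [hbot, Subgroup.mem_bot] at h1
  exact h1

/-- The squares of an abelian subgroup. -/
def sqs (N : Subgroup G) (hab : ∀ x ∈ N, ∀ y ∈ N, x * y = y * x) : Subgroup G where
  carrier := {x | ∃ y ∈ N, y * y = x}
  one_mem' := ⟨1, N.one_mem, mul_one 1⟩
  mul_mem' := by
    rintro _ _ ⟨a, ha, rfl⟩ ⟨c, hc, rfl⟩
    refine ⟨a * c, N.mul_mem ha hc, ?_⟩
    calc a * c * (a * c) = a * (c * a) * c := by group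
      _ = a * (a * c) * c := by rw [hab c hc a ha]
      _ = a * a * (c * c) := by group
  inv_mem' := by
    rintro _ ⟨a, ha, rfl⟩
    exact ⟨a⁻¹, N.inv_mem ha, by group⟩

/-- The dichotomy. -/
theorem CS.minimal [Finite G] [Group.IsSolvable G] (h : CS ρ R b) (hq : FG b t) (C : Subgroup G)
    (hC : C.Normal) (hCR : C ≤ R) (hnc : NC b C) :
    ∃ N : Subgroup G, N ≤ C ∧ ((N.Normal ∧ NC b N ∧ ∀ x ∈ N, x * x = 1) ∨ ∃ z, EX b R N z) := by
  obtain ⟨N, hN⟩ := exists_minimal_of_wellFoundedLT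
    (fun M : Subgroup G => M.Normal ∧ M ≤ C ∧ NC b M) ⟨C, hC, le_rfl, hnc⟩
  obtain ⟨⟨hNn, hNC, hNnc⟩, hmin⟩ := hN
  have hNR := hNC.trans hCR
  -- proper normal subgroups are central
  have hprop : ∀ M : Subgroup G, M.Normal → M ≤ N → M ≠ N → ∀ g : G, ∀ m ∈ M, g * m = m * g := by
    intro M hM hMN hne
    apply h.central hM
    by_contra hcon
    push Not at hcon
    exact hne (le_antisymm hMN (hmin ⟨hM, hMN.trans hNC, hcon⟩ hMN))
  refine ⟨N, hNC, ?_⟩
  have hNbot : N ≠ ⊥ := by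
    rintro rfl
    obtain ⟨m, hm, hm'⟩ := hNnc
    rw [Subgroup.mem_bot] at hm
    rw [hm, mul_one, one_mul] at hm'
    exact hm' rfl
  by_cases hab : ∀ x ∈ N, ∀ y ∈ N, x * y = y * x
  · left
    refine ⟨hNn, hNnc, ?_⟩
    obtain ⟨k, hk⟩ := h.abelian_two hq N hNn hNR hab
    -- squares
    have hsn : (sqs N hab).Normal := by
      constructor
      rintro _ ⟨y, hy, rfl⟩ g
      exact ⟨g * y * g⁻¹, hNn.conj_mem y hy g, by group⟩
    have hsle : sqs N hab ≤ N := by
      rintro _ ⟨y, hy, rfl⟩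
      exact N.mul_mem hy hy
    have hsne : sqs N hab ≠ N := by
      intro heq
      apply hNbot
      rw [eq_bot_iff]
      have key : ∀ j : ℕ, ∀ x ∈ N, ∃ y ∈ N, y ^ (2 ^ j) = x := by
        intro j
        induction j with
        | zero => intro x hx; exact ⟨x, hx, by rw [pow_zero, pow_one]⟩
        | succ j ih =>
          intro x hx
          rw [← heq] at hx
          obtain ⟨y, hy, rfl⟩ := hx
          obtain ⟨w, hw, rfl⟩ := ih y hy
          refine ⟨w, hw, ?_⟩
          rw [pow_succ, mul_comm, two_mul, pow_add]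
      intro x hx
      obtain ⟨y, hy, rfl⟩ := key k x hx
      rw [Subgroup.mem_bot]
      exact hk y hy
    have hsc := hprop _ hsn hsle hsne
    -- Omega
    by_contra hcon
    have hOn := tors_normal hNn hab 2
    have hOle : tors N hab 2 ≤ N := fun x hx => hx.1
    have hOne : tors N hab 2 ≠ N := by
      intro heq
      apply hcon
      intro x hx
      rw [← heq] at hx
      rw [← sq]
      exact hx.2
    have hOc := hprop _ hOn hOle hOne
    -- `b` centralizes `N`
    obtain ⟨m, hm, hmne⟩ := hNnc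
    apply hmne
    have hbm := hNn.conj_mem m hm b
    have e1 : cj b (m * m) = m * m := by
      unfold cj
      rw [hsc b (m * m) ⟨m, hm, rfl⟩, mul_inv_cancel_right]
    rw [cj_mul] at e1
    obtain ⟨c, hc⟩ : ∃ c, c = cj b m * m⁻¹ := ⟨_, rfl⟩
    have hcN : c ∈ N := by rw [hc]; exact N.mul_mem hbm (N.inv_mem hm)
    have hcc : c ^ 2 = 1 := by
      have e2 : cj b m = c * m := by rw [hc]; group
      rw [e2] at e1
      have e3 : c * m * (c * m) = c * c * (m * m) := by
        calc c * m * (c * m) = c * (m * c) * m := by group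
          _ = c * (c * m) * m := by rw [hab m hm c hcN]
          _ = _ := by group
      rw [e3] at e1
      rw [sq]
      calc c * c = c * c * (m * m) * (m * m)⁻¹ := by group
        _ = 1 := by rw [e1, mul_inv_cancel]
    have hcb : cj b c = c := by
      unfold cj
      rw [hOc b c ⟨hcN, hcc⟩, mul_inv_cancel_right]
    have e2 : cj b m = c * m := by rw [hc]; group
    have e3 : cj b (cj b (cj b m)) = c * (c * (c * m)) := by
      rw [e2, cj_mul, hcb, e2, cj_mul, cj_mul, hcb, e2]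
    rw [cj_three h.b3] at e3
    have e4 : c * (c * c) = 1 := by
      calc c * (c * c) = (c * (c * (c * m))) * m⁻¹ := by group
        _ = 1 := by rw [← e3, mul_inv_cancel]
    have e5 : c = 1 := by
      rw [← sq, hcc, mul_one] at e4
      exact e4
    rw [mul_eq_cj, e2, e5, one_mul]
  · right
    -- commutators
    have hcn : ⁅N, N⁆.Normal := inferInstance
    have hcle : ⁅N, N⁆ ≤ N := Subgroup.commutator_le_left N N
    have hcne : ⁅N, N⁆ ≠ N := (Group.IsSolvable.commutator_lt_of_ne_bot hNbot).ne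
    have hcc := hprop _ hcn hcle hcne
    have hcomm : ∀ x ∈ N, ∀ y ∈ N, ∃ c ∈ N, (∀ g, g * c = c * g) ∧ c * c = 1 ∧ x * y = c * (y * x) := by
      intro x hx y hy
      have h1 : ⁅x, y⁆ ∈ ⁅N, N⁆ := Subgroup.commutator_mem_commutator hx hy
      have h2 : ∀ g, g * ⁅x, y⁆ = ⁅x, y⁆ * g := fun g => hcc g _ h1
      refine ⟨⁅x, y⁆, hcle h1, h2, h.central_sq hq (hNR (hcle h1)) h2, ?_⟩
      rw [commutatorElement_def]; group
    push Not at hab
    obtain ⟨x₀, hx₀, y₀, hy₀, hne0⟩ := hab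
    obtain ⟨z, hzN, hzc, hz2, hz⟩ := hcomm x₀ hx₀ y₀ hy₀
    have hz1 : z ≠ 1 := by
      rintro rfl
      rw [one_mul] at hz
      exact hne0 hz
    have huniq : ∀ c ∈ N, (∀ g, g * c = c * g) → c = 1 ∨ c = z := by
      intro c hcN hc
      by_cases hc1 : c = 1
      · exact Or.inl hc1
      · exact Or.inr (h.central_eq hq (hNR hcN) hc hc1 (hNR hzN) hzc hz1)
    -- the centre of `N`
    let Z : Subgroup G :=
      { carrier := {x | x ∈ N ∧ ∀ y ∈ N, x * y = y * x}
        one_mem' := ⟨N.one_mem, fun y _ => by rw [one_mul, mul_one]⟩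
        mul_mem' := by
          rintro a c ⟨h1, h2⟩ ⟨h3, h4⟩
          exact ⟨N.mul_mem h1 h3, fun y hy => by rw [mul_assoc, h4 y hy, ← mul_assoc, h2 y hy, mul_assoc]⟩
        inv_mem' := by
          rintro a ⟨h1, h2⟩
          refine ⟨N.inv_mem h1, fun y hy => ?_⟩
          calc a⁻¹ * y = a⁻¹ * (y * a) * a⁻¹ := by group
            _ = a⁻¹ * (a * y) * a⁻¹ := by rw [h2 y hy]
            _ = y * a⁻¹ := by group }
    have hZn : Z.Normal := by
      constructor
      rintro x ⟨h1, h2⟩ g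
      refine ⟨hNn.conj_mem x h1 g, ?_⟩
      intro y hy
      have h3 := h2 _ (hNn.conj_mem y hy g⁻¹)
      rw [inv_inv] at h3
      calc g * x * g⁻¹ * y = g * (x * (g⁻¹ * y * g)) * g⁻¹ := by group
        _ = g * ((g⁻¹ * y * g) * x) * g⁻¹ := by rw [h3]
        _ = y * (g * x * g⁻¹) := by group
    have hZle : Z ≤ N := fun x hx => hx.1
    have hZne : Z ≠ N := by
      intro heq
      have : x₀ ∈ Z := by rw [heq]; exact hx₀
      exact hne0 (this.2 y₀ hy₀)
    have hZc := hprop Z hZn hZle hZne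
    have hctr : ∀ x ∈ N, (∀ y ∈ N, x * y = y * x) → x = 1 ∨ x = z := by
      intro x hx hxc
      exact huniq x hx (fun g => hZc g x ⟨hx, hxc⟩)
    refine ⟨z, hNn, hNR, hNnc, hzN, hz1, hz2, hzc, ?_, ?_, hctr, hprop⟩
    · intro x hx
      apply hctr (x * x) (N.mul_mem hx hx)
      intro y hy
      obtain ⟨c, hcN, hcc, hc2, hc⟩ := hcomm x hx y hy
      calc x * x * y = x * (x * y) := by group
        _ = x * (c * (y * x)) := by rw [hc]
        _ = (x * c) * (y * x) := by group
        _ = (c * x) * (y * x) := by rw [hcc x]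
        _ = c * (x * y) * x := by group
        _ = c * (c * (y * x)) * x := by rw [hc]
        _ = (c * c) * (y * (x * x)) := by group
        _ = y * (x * x) := by rw [hc2, one_mul]
    · intro x hx y hy
      obtain ⟨c, hcN, hcc, hc2, hc⟩ := hcomm x hx y hy
      rcases huniq c hcN hcc with rfl | rfl
      · left
        rw [hc, one_mul]
      · right
        rw [hc, hcc]

end

end Cfsg.Agent.H587.Cubic
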