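import Mathlib
import Cfsg.Agent.H587.CubicE

/-!
# S4415, part F: the extraspecial case lives in dimension four
-/

set_option autoImplicit false
set_option linter.unusedSectionVars false
set_option linter.unusedVariables false

namespace Cfsg.Agent.H587.Cubic

open Module
open scoped commutatorElement

variable {G : Type*} [Group G] {E : Type*} [AddCommGroup E] [Module (ZMod 3) E] [Finite E]
variable {ρ : Representation (ZMod 3) G E} {R : Subgroup G} {b t : G}

/-- The `-1`-eigenspace. -/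
def ngs (ρ : Representation (ZMod 3) G E) (z : G) : Submodule (ZMod 3) E where
  carrier := {v | ρ z v = -v}
  zero_mem' := by show ρ z (0 : E) = -0; simp
  add_mem' := by
    intro a c ha hc
    have ha' : ρ z a = -a := ha
    have hc' : ρ z c = -c := hc
    show ρ z (a + c) = -(a + c)
    rw [map_add, ha', hc']; abel
  smul_mem' := by
    intro k a ha
    have ha' : ρ z a = -a := ha
    show ρ z (k • a) = -(k • a)
    rw [map_smul, ha', smul_neg]

theorem mem_ngs {z : G} {v : E} : v ∈ ngs ρ z ↔ ρ z v = -v := Iff.rfl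

/-- The fixed space of one element. -/
def fxs (ρ : Representation (ZMod 3) G E) (z : G) : Submodule (ZMod 3) E where
  carrier := {v | ρ z v = v}
  zero_mem' := by show ρ z (0 : E) = 0; simp
  add_mem' := by
    intro a c ha hc
    have ha' : ρ z a = a := ha
    have hc' : ρ z c = c := hc
    show ρ z (a + c) = (a + c)
    rw [map_add, ha', hc']
  smul_mem' := by
    intro k a ha
    have ha' : ρ z a = a := ha
    show ρ z (k • a) = (k • a)
    rw [map_smul, ha']

theorem mem_fxs {z : G} {v : E} : v ∈ fxs ρ z ↔ ρ z v = v := Iff.rfl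

theorem CS.z_line [Finite G] (h : CS ρ R b) (hq : FG b t) {e : E} (he : e ∈ l1 ρ b t)
    (he0 : e ≠ 0) {z : G} (hzR : z ∈ R) (hz : ∀ g, g * z = z * g) (hz1 : z ≠ 1) : ρ z e = -e := by
  rcases h.scalar hq he he0 (hz t).symm (hz _).symm with h1 | h1
  · exact absurd (h.central_one hq he he0 hzR hz h1) hz1
  · exact h1

theorem ngs_inv {z : G} (hz : ∀ g, g * z = z * g) (g : G) {v : E} (hv : v ∈ ngs ρ z) :
    ρ g v ∈ ngs ρ z := by
  rw [mem_ngs] at hv ⊢
  rw [← rho_mul, ← hz, rho_mul, hv, map_neg]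

theorem fxs_inv {z : G} (hz : ∀ g, g * z = z * g) (g : G) {v : E} (hv : v ∈ fxs ρ z) :
    ρ g v ∈ fxs ρ z := by
  rw [mem_fxs] at hv ⊢
  rw [← rho_mul, ← hz, rho_mul, hv]

theorem CS.dd_ngs [Finite G] (h : CS ρ R b) (hq : FG b t) {z : G} (hzR : z ∈ R)
    (hz : ∀ g, g * z = z * g) (hz1 : z ≠ 1) : dd ρ b ≤ ngs ρ z := by
  obtain ⟨e, he, he0⟩ := h.exists_line hq
  have h1 : e ∈ ngs ρ z := h.z_line hq he he0 hzR hz hz1
  intro v hv
  obtain ⟨c, d, f, rfl⟩ := h.dd_line hq he he0 v hv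
  exact Submodule.add_mem _ (Submodule.add_mem _ (Submodule.smul_mem _ _ h1)
    (Submodule.smul_mem _ _ (ngs_inv hz b h1))) (Submodule.smul_mem _ _ (ngs_inv hz b (ngs_inv hz b h1)))

theorem CS.fxs_trivial [Finite G] (h : CS ρ R b) (hq : FG b t) {z : G} (hzR : z ∈ R)
    (hz : ∀ g, g * z = z * g) (hz1 : z ≠ 1) : ∀ g : G, ∀ v ∈ fxs ρ z, ρ g v = v := by
  apply h.trivial_on (fxs ρ z) (fun g w hw => fxs_inv hz g hw)
  intro w hw
  have h1 : ρ b w - w ∈ fxs ρ z := Submodule.sub_mem _ (fxs_inv hz b hw) hw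
  have h2 := h.dd_ngs hq hzR hz hz1 (sub_mem_dd ρ b w)
  rw [mem_fxs] at h1
  rw [mem_ngs, h1] at h2
  exact sub_eq_zero.mp (eq_zero_of_neg h2)

/-- `G` is faithful on the `-1`-space of `z`. -/
theorem CS.ngs_faith [Finite G] (h : CS ρ R b) (hq : FG b t) {z : G} (hzR : z ∈ R)
    (hz : ∀ g, g * z = z * g) (hz1 : z ≠ 1) {g : G} (hg : ∀ v ∈ ngs ρ z, ρ g v = v) : g = 1 := by
  apply h.faith
  intro v
  obtain ⟨v₁, v₂, rfl, h1, h2⟩ := decomp (ρ := ρ) z (h.central_sq hq hzR hz) v
  rw [map_add, h.fxs_trivial hq hzR hz hz1 g v₁ h1, hg v₂ h2]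

/-- An element of `N` moved by `b` modulo the centre. -/
theorem EX.exists_y {N : Subgroup G} {z : G} (h : CS ρ R b) (hN : EX b R N z) :
    ∃ x ∈ N, x⁻¹ * cj b x ≠ 1 ∧ x⁻¹ * cj b x ≠ z := by
  by_contra hcon
  push Not at hcon
  obtain ⟨m, hm, hmne⟩ := hN.nc
  have h1 := hcon m hm
  by_cases h2 : m⁻¹ * cj b m = 1
  · apply hmne
    rw [mul_eq_cj]
    rw [inv_mul_eq_one] at h2
    rw [← h2]
  · have h3 := h1 h2
    have e1 : cj b m = m * z := by rw [← h3]; group
    have ez : cj b z = z := by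
      unfold cj
      rw [hN.cen b, mul_inv_cancel_right]
    have e2 : cj b (cj b (cj b m)) = m * z * z * z := by
      rw [e1, cj_mul, ez, e1, cj_mul, cj_mul, ez, e1]
    rw [cj_three h.b3, mul_assoc (m * z), hN.sq, mul_one] at e2
    exact hN.ne (left_eq_mul.mp e2)

theorem prod_y {x : G} (hb : b * b * b = 1) :
    (x⁻¹ * cj b x) * cj b (x⁻¹ * cj b x) * cj b (cj b (x⁻¹ * cj b x)) = 1 := by
  have e : cj b (cj b (x⁻¹ * cj b x)) = (cj b (cj b x))⁻¹ * x := by
    rw [cj_mul, cj_mul, cj_inv, cj_inv, cj_three hb]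
  rw [e, cj_mul, cj_inv]
  group

theorem finrank_span_le {k : ℕ} (W : Submodule (ZMod 3) E) (w : Fin k → E)
    (hw : ∀ v ∈ W, v ∈ Submodule.span (ZMod 3) (Set.range w)) : finrank (ZMod 3) W ≤ k := by
  have hfin : Module.Finite (ZMod 3) (Submodule.span (ZMod 3) (Set.range w)) := Module.Finite.of_finite
  refine (Submodule.finrank_mono hw).trans ?_
  refine (finrank_range_le_card _).trans ?_
  rw [Fintype.card_fin]

/-- The `-1`-space has dimension at most four. -/
theorem EX.dim_le [Finite G] (h : CS ρ R b) (hq : FG b t) {N : Subgroup G} {z : G}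
    (hN : EX b R N z) : finrank (ZMod 3) (ngs ρ z) ≤ 4 := by
  obtain ⟨x, hx, hy1, hyz⟩ := hN.exists_y h
  have hyN : x⁻¹ * cj b x ∈ N := N.mul_mem (N.inv_mem hx) (hN.nor.conj_mem x hx b)
  have hprod := prod_y (x := x) h.b3
  have hzR := hN.le hN.mem
  rcases hN.sqs _ hyN with hy2 | hy2
  · -- an involution
    generalize x⁻¹ * cj b x = y at *
    have hq' : FG b y := ⟨hy1, hy2, hprod⟩
    obtain ⟨e, he, he0⟩ := h.exists_line hq'
    have hez : e ∈ ngs ρ z := h.z_line hq' he he0 hzR hN.cen hN.ne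
    obtain ⟨n, hn, hyn⟩ : ∃ n ∈ N, y * n = n * y * z := by
      by_contra hcon
      push Not at hcon
      rcases hN.ctr y hyN (fun n hn => (hN.com y hyN n hn).resolve_right (hcon n hn)) with h1 | h1
      · exact hy1 h1
      · exact hyz h1
    apply finrank_span_le _ ![ρ b e, ρ b (ρ b e), ρ n⁻¹ (ρ b e), ρ n⁻¹ (ρ b (ρ b e))]
    intro v hv
    obtain ⟨v₁, v₂, rfl, h1, h2⟩ := decomp (ρ := ρ) y hy2 v
    obtain ⟨c, d, hcd⟩ := h.neg_space hq' he he0 h2
    have hv2 : v₂ ∈ ngs ρ z := by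
      rw [hcd]
      exact Submodule.add_mem _ (Submodule.smul_mem _ _ (ngs_inv hN.cen b hez))
        (Submodule.smul_mem _ _ (ngs_inv hN.cen b (ngs_inv hN.cen b hez)))
    have hv1 : v₁ ∈ ngs ρ z := by
      have := Submodule.sub_mem _ hv hv2
      rwa [add_sub_cancel_right] at this
    have h3 : ρ y (ρ n v₁) = -(ρ n v₁) := by
      rw [← rho_mul, hyn, rho_mul, mem_ngs.mp hv1, rho_mul, map_neg, h1, map_neg]
    obtain ⟨c', d', hcd'⟩ := h.neg_space hq' he he0 h3
    have h4 : v₁ = c' • ρ n⁻¹ (ρ b e) + d' • ρ n⁻¹ (ρ b (ρ b e)) := by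
      have h5 := congrArg (ρ n⁻¹) hcd'
      rw [ρ.inv_self_apply, map_add, map_smul, map_smul] at h5
      exact h5
    rw [h4, hcd]
    have m0 := Submodule.subset_span (R := ZMod 3) (s := Set.range ![ρ b e, ρ b (ρ b e), ρ n⁻¹ (ρ b e),
      ρ n⁻¹ (ρ b (ρ b e))]) ⟨0, rfl⟩
    have m1 := Submodule.subset_span (R := ZMod 3) (s := Set.range ![ρ b e, ρ b (ρ b e), ρ n⁻¹ (ρ b e),
      ρ n⁻¹ (ρ b (ρ b e))]) ⟨1, rfl⟩
    have m2 := Submodule.subset_span (R := ZMod 3) (s := Set.range ![ρ b e, ρ b (ρ b e), ρ n⁻¹ (ρ b e),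
      ρ n⁻¹ (ρ b (ρ b e))]) ⟨2, rfl⟩
    have m3 := Submodule.subset_span (R := ZMod 3) (s := Set.range ![ρ b e, ρ b (ρ b e), ρ n⁻¹ (ρ b e),
      ρ n⁻¹ (ρ b (ρ b e))]) ⟨3, rfl⟩
    exact Submodule.add_mem _ (Submodule.add_mem _ (Submodule.smul_mem _ _ m2) (Submodule.smul_mem _ _ m3))
      (Submodule.add_mem _ (Submodule.smul_mem _ _ m0) (Submodule.smul_mem _ _ m1))
  · -- an element of order four
    obtain ⟨e, he, he0⟩ := h.exists_line hq
    have hsub : ngs ρ z ≤ dd ρ b ⊔ (dd ρ b).map (ρ x⁻¹) := by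
      intro v hv
      have key : ∀ u, ρ (x⁻¹ * cj b x) u - u ∈ dd ρ b ⊔ (dd ρ b).map (ρ x⁻¹) := by
        intro u
        obtain ⟨u', hu'⟩ : ∃ u', u' = ρ b⁻¹ u := ⟨_, rfl⟩
        have e1 : ρ b u' = u := by rw [hu', ρ.self_inv_apply]
        have e2 : ρ (x⁻¹ * cj b x) u - u = ρ x⁻¹ (ρ b (ρ x u') - ρ x u') + -(ρ b u' - u') := by
          have e3 : x⁻¹ * cj b x = x⁻¹ * (b * (x * b⁻¹)) := by unfold cj; group
          rw [e3, rho_mul, rho_mul, rho_mul, ← hu', map_sub, ρ.inv_self_apply, e1]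
          abel
        rw [e2]
        apply Submodule.add_mem
        · exact Submodule.mem_sup_right ⟨_, sub_mem_dd ρ b _, rfl⟩
        · exact Submodule.mem_sup_left (Submodule.neg_mem _ (sub_mem_dd ρ b _))
      -- `(y - 1) (y v + v) = z v - v = v`
      have h1 := key (ρ (x⁻¹ * cj b x) v + v)
      rw [map_add, ← rho_mul, hy2, mem_ngs.mp hv] at h1
      have h2 : -v + ρ (x⁻¹ * cj b x) v - (ρ (x⁻¹ * cj b x) v + v) = v := by
        have h3 : (3 : ZMod 3) • v = 0 := by
          have : (3 : ZMod 3) = 0 := rfl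
          rw [this, zero_smul]
        have h4 : (3 : ZMod 3) • v = v + v + v := by
          have : (3 : ZMod 3) = 1 + 1 + 1 := rfl
          rw [this, add_smul, add_smul, one_smul]
        have h5 : v + v + v = 0 := by rw [← h4, h3]
        calc -v + ρ (x⁻¹ * cj b x) v - (ρ (x⁻¹ * cj b x) v + v) = v - (v + v + v) := by abel
          _ = v := by rw [h5, sub_zero]
      rw [h2] at h1
      exact h1
    have hfin : Module.Finite (ZMod 3) E := Module.Finite.of_finite
    refine (Submodule.finrank_mono hsub).trans ?_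
    refine (Submodule.finrank_add_le_finrank_add_finrank _ _).trans ?_
    have := Submodule.finrank_map_le (ρ x⁻¹) (dd ρ b)
    have h2 := h.dim
    omega

/-- There is an element of order four. -/
theorem EX.exists_four {N : Subgroup G} {z : G} (hN : EX b R N z) : ∃ y ∈ N, y * y = z := by
  by_contra hcon
  push Not at hcon
  have h1 : ∀ x ∈ N, x * x = 1 := fun x hx => (hN.sqs x hx).resolve_right (hcon x hx)
  have hab : ∀ x ∈ N, ∀ y ∈ N, x * y = y * x := by
    intro x hx y hy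
    have e := h1 _ (N.mul_mem hx hy)
    calc x * y = x * (x * y * (x * y)) * y := by rw [e, mul_one]
      _ = (x * x) * (y * x) * (y * y) := by group
      _ = y * x := by rw [h1 x hx, h1 y hy, one_mul, mul_one]
  obtain ⟨m, hm, hmne⟩ := hN.nc
  apply hmne
  rcases hN.ctr m hm (hab m hm) with rfl | rfl
  · rw [mul_one, one_mul]
  · exact hN.cen b

/-- The `-1`-space has dimension four. -/
theorem EX.dim_eq [Finite G] (h : CS ρ R b) (hq : FG b t) {N : Subgroup G} {z : G}
    (hN : EX b R N z) : finrank (ZMod 3) (ngs ρ z) = 4 := by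
  have hle := hN.dim_le h hq
  have hfin : Module.Finite (ZMod 3) E := Module.Finite.of_finite
  have hzR := hN.le hN.mem
  have hge : 3 ≤ finrank (ZMod 3) (ngs ρ z) := by
    obtain ⟨e, he, he0⟩ := h.exists_line hq
    have hez : e ∈ ngs ρ z := h.z_line hq he he0 hzR hN.cen hN.ne
    have hli : LinearIndependent (ZMod 3) (![⟨e, hez⟩, ⟨ρ b e, ngs_inv hN.cen b hez⟩,
        ⟨ρ b (ρ b e), ngs_inv hN.cen b (ngs_inv hN.cen b hez)⟩] : Fin 3 → ngs ρ z) := by
      rw [Fintype.linearIndependent_iff]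
      intro c hc
      rw [Fin.sum_univ_three] at hc
      have hc' : c 0 • e + ρ b (c 1 • e) + ρ b (ρ b (c 2 • e)) = 0 := by
        rw [map_smul, map_smul, map_smul]
        exact congrArg Subtype.val hc
      obtain ⟨h0, h1, h2⟩ := hq.indep h.b3 (Submodule.smul_mem _ _ he) (Submodule.smul_mem _ _ he)
        (Submodule.smul_mem _ _ he) hc'
      intro i
      fin_cases i
      · exact (smul_eq_zero.mp h0).resolve_right he0
      · exact (smul_eq_zero.mp h1).resolve_right he0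
      · exact (smul_eq_zero.mp h2).resolve_right he0
    have := hli.fintype_card_le_finrank
    rwa [Fintype.card_fin] at this
  obtain ⟨y, hy, hy2⟩ := hN.exists_four
  let f : Module.End (ZMod 3) (ngs ρ z) := (ρ y).restrict (fun v hv => ngs_inv hN.cen y hv)
  have hf : f * f = -1 := by
    ext v
    show ρ y (ρ y (v : E)) = -(v : E)
    rw [← rho_mul, hy2]
    exact v.2
  have hdet : LinearMap.det f * LinearMap.det f = (-1) ^ finrank (ZMod 3) (ngs ρ z) := by
    rw [← map_mul, hf]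
    have : (-1 : Module.End (ZMod 3) (ngs ρ z)) = (-1 : ZMod 3) • 1 := by
      rw [neg_smul, one_smul]
    rw [this, LinearMap.det_smul, map_one, mul_one]
  have h3 : finrank (ZMod 3) (ngs ρ z) ≠ 3 := by
    intro h3
    rw [h3] at hdet
    generalize LinearMap.det f = d at hdet
    revert d
    decide
  omega

end Cfsg.Agent.H587.Cubic
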