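import Mathlib
import Cfsg.Agent.H587.CubicG

/-!
# S4415, part H: there is an elementary abelian normal subgroup not centralized by `b`
-/

set_option autoImplicit false
set_option linter.unusedSectionVars false
set_option linter.unusedVariables false

namespace Cfsg.Agent.H587.Cubic

open Module
open scoped commutatorElement

variable {G : Type*} [Group G] {E : Type*} [AddCommGroup E] [Module (ZMod 3) E] [Finite E]
variable {ρ : Representation (ZMod 3) G E} {R : Subgroup G} {b t : G}

theorem CS.normal_of [Finite G] (h : CS ρ R b) (A : Subgroup G) (hR : ∀ r ∈ R, ∀ a ∈ A, cj r a ∈ A)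
    (hb : ∀ a ∈ A, cj b a ∈ A) : A.Normal := by
  have h1 : R ⊔ Subgroup.zpowers b ≤ Subgroup.normalizer (A : Set G) := by
    rw [sup_le_iff]
    constructor
    · intro r hr
      exact Subgroup.mem_normalizer_fintype (fun a ha => hR r hr a ha)
    · rw [Subgroup.zpowers_le]
      exact Subgroup.mem_normalizer_fintype (fun a ha => hb a ha)
  rw [h.gen, top_le_iff] at h1
  exact Subgroup.normalizer_eq_top_iff.mp h1

/-- Products of powers of three commuting elements. -/
def abc (u v w : G) (h1 : u * v = v * u) (h2 : u * w = w * u) (h3 : v * w = w * v) : Subgroup G where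
  carrier := {a | ∃ i j k : ℤ, a = u ^ i * v ^ j * w ^ k}
  one_mem' := ⟨0, 0, 0, by simp⟩
  mul_mem' := by
    rintro _ _ ⟨i, j, k, rfl⟩ ⟨i', j', k', rfl⟩
    refine ⟨i + i', j + j', k + k', ?_⟩
    have c1 : Commute (v ^ j) (u ^ i') := (show Commute v u from h1.symm).zpow_zpow _ _
    have c2 : Commute (w ^ k) (u ^ i') := (show Commute w u from h2.symm).zpow_zpow _ _
    have c3 : Commute (w ^ k) (v ^ j') := (show Commute w v from h3.symm).zpow_zpow _ _
    rw [zpow_add, zpow_add, zpow_add]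
    calc u ^ i * v ^ j * w ^ k * (u ^ i' * v ^ j' * w ^ k')
        = u ^ i * v ^ j * (w ^ k * u ^ i') * v ^ j' * w ^ k' := by group
      _ = u ^ i * (v ^ j * u ^ i') * (w ^ k * v ^ j') * w ^ k' := by rw [c2.eq]; group
      _ = u ^ i * u ^ i' * (v ^ j * v ^ j') * (w ^ k * w ^ k') := by rw [c1.eq, c3.eq]; group
  inv_mem' := by
    rintro _ ⟨i, j, k, rfl⟩
    refine ⟨-i, -j, -k, ?_⟩
    have c1 : Commute (v ^ (-j)) (u ^ (-i)) := (show Commute v u from h1.symm).zpow_zpow _ _
    have c2 : Commute (w ^ (-k)) (u ^ (-i)) := (show Commute w u from h2.symm).zpow_zpow _ _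
    have c3 : Commute (w ^ (-k)) (v ^ (-j)) := (show Commute w v from h3.symm).zpow_zpow _ _
    rw [mul_inv_rev, mul_inv_rev, ← zpow_neg, ← zpow_neg, ← zpow_neg, c1.eq, ← mul_assoc, c2.eq,
      mul_assoc, c3.eq, ← mul_assoc]

/-- A four-group of `R` normalized by `R` up to a central involution. -/
theorem CS.lift_four [Finite G] (h : CS ρ R b) {z w : G} (hzR : z ∈ R) (hz : ∀ g, g * z = z * g)
    (hz2 : z * z = 1) (hw : FG b w) (hwR : w ∈ R) (hr : ∀ r ∈ R, cj r w = w ∨ cj r w = w * z) :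
    ∃ A : Subgroup G, A.Normal ∧ A ≤ R ∧ NC b A ∧ ∀ x ∈ A, x * x = 1 := by
  have hb := h.b3
  have c12 := hw.comm12 hb
  have hw1 := (hw.next hb).sq
  have hw1R : cj b w ∈ R := cj_mem h.nor b hwR
  have hzb : ∀ g, cj g z = z := by
    intro g; unfold cj; rw [hz g, mul_inv_cancel_right]
  let A := abc w (cj b w) z c12 (hz _) (hz _)
  have hwA : w ∈ A := ⟨1, 0, 0, by simp⟩
  have hw1A : cj b w ∈ A := ⟨0, 1, 0, by simp⟩
  have hzA : z ∈ A := ⟨0, 0, 1, by simp⟩
  have hcjz : ∀ (g x : G) (k : ℤ), cj g (x ^ k) = (cj g x) ^ k := by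
    intro g x k; unfold cj; rw [conj_zpow]
  refine ⟨A, ?_, ?_, ⟨w, hwA, ?_⟩, ?_⟩
  · apply h.normal_of
    · intro r hrR a ha
      obtain ⟨i, j, k, rfl⟩ := ha
      rw [cj_mul, cj_mul, hcjz, hcjz, hcjz, hzb]
      have h1 : cj r w ∈ A := by
        rcases hr r hrR with h1 | h1
        · rw [h1]; exact hwA
        · rw [h1]; exact A.mul_mem hwA hzA
      have h2 : cj r (cj b w) ∈ A := by
        have e : cj r (cj b w) = cj b (cj (b⁻¹ * r * b) w) := by
          rw [cj_cj, cj_cj]; congr 1; group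
        have hr' : b⁻¹ * r * b ∈ R := by
          have := h.nor.conj_mem r hrR b⁻¹
          rwa [inv_inv] at this
        rw [e]
        rcases hr _ hr' with h1 | h1
        · rw [h1]; exact hw1A
        · rw [h1, cj_mul, hzb]; exact A.mul_mem hw1A hzA
      exact A.mul_mem (A.mul_mem (A.zpow_mem h1 i) (A.zpow_mem h2 j)) (A.zpow_mem hzA k)
    · intro a ha
      obtain ⟨i, j, k, rfl⟩ := ha
      rw [cj_mul, cj_mul, hcjz, hcjz, hcjz, hzb, ← hw.mul_eq hb]
      exact A.mul_mem (A.mul_mem (A.zpow_mem hw1A i) (A.zpow_mem (A.mul_mem hwA hw1A) j))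
        (A.zpow_mem hzA k)
  · rintro _ ⟨i, j, k, rfl⟩
    exact R.mul_mem (R.mul_mem (R.zpow_mem hwR i) (R.zpow_mem hw1R j)) (R.zpow_mem hzR k)
  · intro h1
    rw [mul_eq_cj] at h1
    exact hw.ne12 hb (mul_right_cancel h1)
  · rintro _ ⟨i, j, k, rfl⟩
    have c1 : Commute (cj b w ^ j) (w ^ i) := (show Commute (cj b w) w from c12.symm).zpow_zpow _ _
    have c2 : Commute (z ^ k) (w ^ i) := (show Commute z w from (hz w).symm).zpow_zpow _ _
    have c3 : Commute (z ^ k) (cj b w ^ j) := (show Commute z (cj b w) from (hz _).symm).zpow_zpow _ _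
    have hs : ∀ (x : G) (k : ℤ), x * x = 1 → x ^ k * x ^ k = 1 := by
      intro x k hx
      rw [← (Commute.refl x).mul_zpow, hx, one_zpow]
    calc w ^ i * cj b w ^ j * z ^ k * (w ^ i * cj b w ^ j * z ^ k)
        = w ^ i * cj b w ^ j * (z ^ k * w ^ i) * cj b w ^ j * z ^ k := by group
      _ = w ^ i * (cj b w ^ j * w ^ i) * (z ^ k * cj b w ^ j) * z ^ k := by rw [c2.eq]; group
      _ = w ^ i * w ^ i * (cj b w ^ j * cj b w ^ j) * (z ^ k * z ^ k) := by rw [c1.eq, c3.eq]; group
      _ = 1 := by rw [hs w i hw.sq, hs _ j hw1, hs z k hz2, mul_one, mul_one]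

/-- `R` acts trivially on `N` modulo `z`, if `R` is a 2-group. -/
theorem EX.cj_cases [Finite G] {N : Subgroup G} {z : G} (hN : EX b R N z) (hR : R.Normal)
    (h2 : IsPGroup 2 R) : ∀ r ∈ R, ∀ x ∈ N, cj r x = x ∨ cj r x = x * z := by
  have f2 : Fact (Nat.Prime 2) := ⟨Nat.prime_two⟩
  have hNn := hN.nor
  have hle : ⁅N, R⁆ ≤ N := Subgroup.commutator_le_left N R
  have hne : ⁅N, R⁆ ≠ N := by
    intro heq
    have hnil : Group.IsNilpotent R := h2.isNilpotent
    obtain ⟨n, hn⟩ := (Subgroup.isNilpotent_iff_lowerCentralSeries R).mp hnil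
    have key : ∀ k : ℕ, N ≤ R.lowerCentralSeries k := by
      intro k
      induction k with
      | zero =>
        rw [Subgroup.lowerCentralSeries_zero]
        exact hN.le
      | succ k ih =>
        rw [← heq, Subgroup.lowerCentralSeries_succ]
        exact Subgroup.commutator_mono ih le_rfl
    have h3 := key n
    rw [hn, le_bot_iff] at h3
    apply hN.ne
    have := hN.mem
    rwa [h3, Subgroup.mem_bot] at this
  have hcen := hN.min _ inferInstance hle hne
  intro r hr x hx
  have h1 : ⁅x⁻¹, r⁆ ∈ ⁅N, R⁆ := Subgroup.commutator_mem_commutator (N.inv_mem hx) hr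
  have h3 := hN.ctr _ (hle h1) (fun y _ => (hcen y _ h1).symm)
  have e : cj r x = x * ⁅x⁻¹, r⁆ := by
    rw [commutatorElement_def]; unfold cj; group
  rcases h3 with h3 | h3
  · left; rw [e, h3, mul_one]
  · right; rw [e, h3]

/-- There is an elementary abelian normal subgroup not centralized by `b`. -/
theorem CS.exists_elem [Finite G] [Group.IsSolvable G] (h : CS ρ R b) (hq : FG b t) (htR : t ∈ R) :
    ∃ A : Subgroup G, A.Normal ∧ A ≤ R ∧ NC b A ∧ ∀ x ∈ A, x * x = 1 := by
  have hb := h.b3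
  by_contra hE
  have hRnc : NC b R := ⟨t, htR, fun h1 => hq.ne12 hb (by
    rw [mul_eq_cj] at h1; exact mul_right_cancel h1)⟩
  obtain ⟨N, hNC, hN⟩ := h.minimal hq R h.nor le_rfl hRnc
  rcases hN with ⟨h1, h2, h3⟩ | ⟨z, hN⟩
  · exact hE ⟨N, h1, hNC, h2, h3⟩
  have h2R := hN.two_group h hq
  have hzR := hN.le hN.mem
  have hzb : ∀ g, cj g z = z := by
    intro g; unfold cj; rw [hN.cen g, mul_inv_cancel_right]
  have hcj := hN.cj_cases h.nor h2R
  -- no four-group
  have hno : ∀ w ∈ R, FG b w → ¬ ∀ r ∈ R, cj r w = w ∨ cj r w = w * z := by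
    intro w hwR hw hr
    exact hE (h.lift_four hzR hN.cen hN.sq hw hwR hr)
  -- the elements `y`
  have hy : ∀ (M : Subgroup G), EX b R M z → ∃ y ∈ M, y * y = z ∧ y * cj b y * cj b (cj b y) = 1 ∧
      ∀ r ∈ R, cj r y = y ∨ cj r y = y * z := by
    intro M hM
    obtain ⟨x, hx, hy1, hyz⟩ := hM.exists_y h
    have hyM : x⁻¹ * cj b x ∈ M := M.mul_mem (M.inv_mem hx) (hM.nor.conj_mem x hx b)
    have hr := fun r hr => hM.cj_cases h.nor h2R r hr _ hyM
    refine ⟨_, hyM, ?_, prod_y hb, hr⟩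
    rcases hM.sqs _ hyM with h4 | h4
    · exact absurd hr (hno _ (hM.le hyM) ⟨hy1, h4, prod_y hb⟩)
    · exact h4
  obtain ⟨y, hyN, hy2, hyp, hyr⟩ := hy N hN
  have hy1N : cj b y ∈ N := cj_mem hN.nor b hyN
  have hy12 : (cj b y) * (cj b y) = z := by rw [← cj_mul, hy2, hzb]
  have hy22 : (cj b (cj b y)) * (cj b (cj b y)) = z := by rw [← cj_mul, hy12, hzb]
  -- `y` and `cj b y` do not commute
  have hnc : y * cj b y ≠ cj b y * y := by
    intro hc
    have e1 : (y * cj b y) * (y * cj b y) = 1 := by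
      calc (y * cj b y) * (y * cj b y) = y * (cj b y * y) * cj b y := by group
        _ = y * (y * cj b y) * cj b y := by rw [hc]
        _ = (y * y) * (cj b y * cj b y) := by group
        _ = 1 := by rw [hy2, hy12, hN.sq]
    have e2 : cj b (cj b y) = (y * cj b y)⁻¹ := (inv_eq_of_mul_eq_one_right hyp).symm
    rw [e2] at hy22
    apply hN.ne
    calc z = (y * cj b y)⁻¹ * (y * cj b y)⁻¹ := hy22.symm
      _ = ((y * cj b y) * (y * cj b y))⁻¹ := by group
      _ = 1 := by rw [e1, inv_one]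
  have hy1r : ∀ r ∈ R, cj r (cj b y) = cj b y ∨ cj r (cj b y) = cj b y * z :=
    fun r hr => hN.cj_cases h.nor h2R r hr _ hy1N
  -- conjugation within `N`
  have hcyy1 : cj y (cj b y) = cj b y * z := by
    rcases hy1r y (hN.le hyN) with h1 | h1
    · exfalso; apply hnc; rw [mul_eq_cj, h1]
    · exact h1
  have hcy1y : cj (cj b y) y = y * z := by
    rcases hyr _ (hN.le hy1N) with h1 | h1
    · exfalso; apply hnc; rw [mul_eq_cj (cj b y), h1]
    · exact h1
  have hself : ∀ x : G, cj x x = x := by intro x; unfold cj; group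
  have hzz : ∀ x : G, x * z * z = x := by intro x; rw [mul_assoc, hN.sq, mul_one]
  -- the centralizer of `y` and `cj b y`
  let C : Subgroup G :=
    { carrier := {c | c ∈ R ∧ cj c y = y ∧ cj c (cj b y) = cj b y}
      one_mem' := ⟨R.one_mem, by unfold cj; group, by unfold cj; group⟩
      mul_mem' := by
        rintro a c ⟨h1, h2, h3⟩ ⟨h4, h5, h6⟩
        exact ⟨R.mul_mem h1 h4, by rw [← cj_cj, h5, h2], by rw [← cj_cj, h6, h3]⟩
      inv_mem' := by
        rintro a ⟨h1, h2, h3⟩
        refine ⟨R.inv_mem h1, ?_, ?_⟩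
        · conv_lhs => rw [← h2]
          rw [cj_cj]; unfold cj; group
        · conv_lhs => rw [← h3]
          rw [cj_cj]; unfold cj; group }
  have hCR : C ≤ R := fun c hc => hc.1
  have hCn : C.Normal := by
    apply h.normal_of
    · intro r hr c hc
      obtain ⟨hc1, hc2, hc3⟩ := hc
      have hr' := R.inv_mem hr
      refine ⟨cj_mem h.nor r hc1, ?_, ?_⟩
      · have e : cj (cj r c) y = cj r (cj c (cj r⁻¹ y)) := by
          rw [cj_cj, cj_cj]; rfl
        have e' : ∀ x, cj r (cj r⁻¹ x) = x := by intro x; rw [cj_cj]; unfold cj; group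
        rw [e]
        rcases hyr r⁻¹ hr' with h4 | h4
        · rw [h4, hc2]
          have := e' y
          rwa [h4] at this
        · rw [h4, cj_mul, hc2, hzb, ← h4]
          exact e' y
      · have e : cj (cj r c) (cj b y) = cj r (cj c (cj r⁻¹ (cj b y))) := by
          generalize cj b y = x
          rw [cj_cj, cj_cj]; rfl
        have e' : ∀ x, cj r (cj r⁻¹ x) = x := by intro x; rw [cj_cj]; unfold cj; group
        rw [e]
        rcases hy1r r⁻¹ hr' with h4 | h4
        · rw [h4, hc3]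
          have := e' (cj b y)
          rwa [h4] at this
        · rw [h4, cj_mul, hc3, hzb, ← h4]
          exact e' _
    · intro c hc
      obtain ⟨hc1, hc2, hc3⟩ := hc
      have ebc : ∀ x, cj (cj b c) (cj b x) = cj b (cj c x) := by
        intro x; rw [cj_cj, cj_cj]; congr 1; unfold cj; group
      have e1 : cj (cj b c) (cj b y) = cj b y := by rw [ebc, hc2]
      have e2 : cj (cj b c) (cj b (cj b y)) = cj b (cj b y) := by rw [ebc, hc3]
      refine ⟨cj_mem h.nor b hc1, ?_, e1⟩
      have e3 : y = (cj b y * cj b (cj b y))⁻¹ := by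
        rw [eq_inv_iff_mul_eq_one, ← mul_assoc]; exact hyp
      rw [e3, cj_inv, cj_mul, e2, e1]
  -- `C` is not `{1, z}`
  have hCz : ∃ c ∈ C, c ≠ 1 ∧ c ≠ z := by
    by_contra hcon
    push Not at hcon
    -- every element of `R` is in `N`
    have hRN : R ≤ N := by
      intro r hr
      have key : ∃ n ∈ N, n * r ∈ C := by
        rcases hyr r hr with h1 | h1 <;> rcases hy1r r hr with h4 | h4
        · exact ⟨1, N.one_mem, R.mul_mem R.one_mem hr, by rw [one_mul, h1], by rw [one_mul, h4]⟩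
        · refine ⟨y, hyN, R.mul_mem (hN.le hyN) hr, ?_, ?_⟩
          · rw [← cj_cj, h1, hself]
          · rw [← cj_cj, h4, cj_mul, hcyy1, hzb, hzz]
        · refine ⟨cj b y, hy1N, R.mul_mem (hN.le hy1N) hr, ?_, ?_⟩
          · rw [← cj_cj, h1, cj_mul, hcy1y, hzb, hzz]
          · rw [← cj_cj, h4, hself]
        · refine ⟨y * cj b y, N.mul_mem hyN hy1N, R.mul_mem (R.mul_mem (hN.le hyN) (hN.le hy1N)) hr,
            ?_, ?_⟩
          · rw [← cj_cj, ← cj_cj, h1, cj_mul, hcy1y, hzb, hzz, hself]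
          · rw [← cj_cj, ← cj_cj, h4, cj_mul, hself, hzb, cj_mul, hcyy1, hzb, hzz]
      obtain ⟨n, hn, hnr⟩ := key
      have h1 : n * r ∈ N := by
        by_cases h1 : n * r = 1
        · rw [h1]; exact N.one_mem
        · rw [hcon _ hnr h1]; exact hN.mem
      have h5 := N.mul_mem (N.inv_mem hn) h1
      rwa [inv_mul_cancel_left] at h5
    exact hno t htR hq (fun r hr => hN.cj_cases h.nor h2R r hr _ (hRN htR))
  obtain ⟨c, hcC, hc1, hcz⟩ := hCz
  -- `b` does not centralize `C`
  have hCnc : NC b C := by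
    by_contra hcon
    unfold NC at hcon
    push Not at hcon
    have h1 := h.central hCn hcon
    exact hcz (h.central_eq hq (hCR hcC) (fun g => h1 g c hcC) hc1 hzR hN.cen hN.ne)
  obtain ⟨N₂, hN₂C, hN₂⟩ := h.minimal hq C hCn hCR hCnc
  rcases hN₂ with ⟨h1, h3, h4⟩ | ⟨z₂, hN₂⟩
  · exact hE ⟨N₂, h1, hN₂C.trans hCR, h3, h4⟩
  have hz₂ : z₂ = z := h.central_eq hq (hN₂.le hN₂.mem) hN₂.cen hN₂.ne hzR hN.cen hN.ne
  rw [hz₂] at hN₂
  obtain ⟨u, huN, hu2, hup, hur⟩ := hy N₂ hN₂
  have huC := hN₂C huN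
  have hu1C : cj b u ∈ C := cj_mem hCn b huC
  have hu2C : cj b (cj b u) ∈ C := cj_mem hCn b hu1C
  -- commuting
  have hcom : ∀ c ∈ C, c * y = y * c ∧ c * cj b y = cj b y * c := by
    intro c hc
    exact ⟨by rw [mul_eq_cj, hc.2.1], by rw [mul_eq_cj, hc.2.2]⟩
  have e2 : cj b (cj b y) = (y * cj b y)⁻¹ := (inv_eq_of_mul_eq_one_right hyp).symm
  have hw : FG b (y * u) := by
    refine ⟨?_, ?_, ?_⟩
    · intro h1
      have h3 : y = u⁻¹ := mul_eq_one_iff_eq_inv.mp h1
      have h4 : y ∈ C := by rw [h3]; exact C.inv_mem huC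
      exact hnc (hcom y h4).2
    · calc y * u * (y * u) = y * (u * y) * u := by group
        _ = y * (y * u) * u := by rw [(hcom u huC).1]
        _ = (y * y) * (u * u) := by group
        _ = 1 := by rw [hy2, hu2, hN.sq]
    · rw [cj_mul, cj_mul]
      have hcy2 : ∀ c ∈ C, c * cj b (cj b y) = cj b (cj b y) * c := by
        intro c hc
        have h5 : c * (y * cj b y) = (y * cj b y) * c := by
          rw [← mul_assoc, (hcom c hc).1, mul_assoc, (hcom c hc).2, mul_assoc]
        rw [e2]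
        exact ((show Commute c (y * cj b y) from h5).inv_right).eq
      calc y * u * (cj b y * cj b u) * (cj b (cj b y) * cj b (cj b u))
          = y * (u * cj b y) * (cj b u * cj b (cj b y)) * cj b (cj b u) := by group
        _ = y * (cj b y * u) * (cj b (cj b y) * cj b u) * cj b (cj b u) := by
            rw [(hcom u huC).2, hcy2 _ hu1C]
        _ = y * cj b y * (u * cj b (cj b y)) * cj b u * cj b (cj b u) := by group
        _ = y * cj b y * (cj b (cj b y) * u) * cj b u * cj b (cj b u) := by rw [hcy2 _ huC]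
        _ = (y * cj b y * cj b (cj b y)) * (u * cj b u * cj b (cj b u)) := by group
        _ = 1 := by rw [hyp, hup, one_mul]
  refine hno (y * u) (R.mul_mem (hN.le hyN) (hN₂.le huN)) hw ?_
  intro r hr
  rw [cj_mul]
  rcases hyr r hr with h1 | h1 <;> rcases hur r hr with h4 | h4 <;> rw [h1, h4]
  · left; rfl
  · right; group
  · right
    calc y * z * u = y * (z * u) := by group
      _ = y * (u * z) := by rw [hN.cen u]
      _ = y * u * z := by group
  · left
    calc y * z * (u * z) = y * (z * u) * z := by group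
      _ = y * (u * z) * z := by rw [hN.cen u]
      _ = y * u * (z * z) := by group
      _ = y * u := by rw [hN.sq, mul_one]

end Cfsg.Agent.H587.Cubic
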