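import Mathlib

/-!
# S4415, part K: even permutations of degree three and four
-/

set_option autoImplicit false
set_option linter.unusedSectionVars false
set_option linter.unusedVariables false

namespace Cfsg.Agent.H587.Cubic

set_option maxRecDepth 10000 in
theorem fin3 : ∀ σ : Equiv.Perm (Fin 3), Equiv.Perm.sign σ = 1 → σ ^ 3 = 1 := by decide

set_option maxRecDepth 10000 in
theorem fin4 : ∀ σ : Equiv.Perm (Fin 4), Equiv.Perm.sign σ = 1 → σ ^ 2 = 1 ∨ σ ^ 3 = 1 := by decide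

set_option maxRecDepth 10000 in
theorem fin4' : ∀ σ : Equiv.Perm (Fin 4), Equiv.Perm.sign σ = 1 → σ ^ 2 = 1 → (∃ x, σ x = x) → σ = 1 := by
  decide

theorem perm3 {X : Type*} [Fintype X] [DecidableEq X] (hX : Fintype.card X = 3) (σ : Equiv.Perm X)
    (hs : Equiv.Perm.sign σ = 1) : σ ^ 3 = 1 := by
  let e := Fintype.equivFinOfCardEq hX
  have h1 := fin3 (e.permCongrHom σ) (by
    rw [← hs]; exact Equiv.Perm.sign_permCongr e σ)
  rw [← map_pow] at h1
  exact (MulEquiv.map_eq_one_iff _).mp h1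

theorem perm4 {X : Type*} [Fintype X] [DecidableEq X] (hX : Fintype.card X = 4) (σ : Equiv.Perm X)
    (hs : Equiv.Perm.sign σ = 1) : σ ^ 2 = 1 ∨ σ ^ 3 = 1 := by
  let e := Fintype.equivFinOfCardEq hX
  have h1 := fin4 (e.permCongrHom σ) (by
    rw [← hs]; exact Equiv.Perm.sign_permCongr e σ)
  rw [← map_pow, ← map_pow] at h1
  rcases h1 with h1 | h1
  · exact Or.inl ((MulEquiv.map_eq_one_iff _).mp h1)
  · exact Or.inr ((MulEquiv.map_eq_one_iff _).mp h1)

theorem perm4' {X : Type*} [Fintype X] [DecidableEq X] (hX : Fintype.card X = 4) (σ : Equiv.Perm X)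
    (hs : Equiv.Perm.sign σ = 1) (h2 : σ ^ 2 = 1) (hx : ∃ x, σ x = x) : σ = 1 := by
  let e := Fintype.equivFinOfCardEq hX
  have h1 := fin4' (e.permCongrHom σ) (by
    rw [← hs]; exact Equiv.Perm.sign_permCongr e σ) (by rw [← map_pow, h2, map_one]) (by
      obtain ⟨x, hx⟩ := hx
      refine ⟨e x, ?_⟩
      show e (σ (e.symm (e x))) = e x
      rw [e.symm_apply_apply, hx])
  exact (MulEquiv.map_eq_one_iff _).mp h1

end Cfsg.Agent.H587.Cubic
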