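import Mathlib
import Cfsg.Prelude.Def_Transfer
import Cfsg.Agent.H587.CubicJ
import Cfsg.Agent.H587.CubicK
import Cfsg.Agent.J2.ExtQuot

/-!
# S4415, part L: the structure of `R`
-/

set_option autoImplicit false
set_option linter.unusedSectionVars false
set_option linter.unusedVariables false

namespace Cfsg.Agent.H587.Cubic

open Module
open scoped commutatorElement

universe u w

attribute [instance] MD.act MD.fin MD.trans

section

variable {G : Type u} [Group G] {E : Type w} [AddCommGroup E] [Module (ZMod 3) E] [Finite E]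
variable {ρ : Representation (ZMod 3) G E} {R : Subgroup G} {b : G}

/-- `R` is in the kernel of every homomorphism to an abelian group. -/
theorem CS.hom_trivial (h : CS ρ R b) {C : Type*} [CommGroup C] (φ : G →* C) : ∀ r ∈ R, φ r = 1 := by
  have h1 : R ≤ φ.ker := by
    rw [← h.comm, Subgroup.commutator_le]
    intro r _ c _
    rw [MonoidHom.mem_ker, map_commutatorElement]
    exact commutatorElement_eq_one_iff_mul_comm.mpr (mul_comm _ _)
  intro r hr
  exact MonoidHom.mem_ker.mp (h1 hr)

variable (m : MD ρ R b)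

theorem MD.s_one (x : m.X) : m.s 1 x = 1 := by
  have h1 := m.hv 1 x
  rw [rho_one, one_smul] at h1
  have h2 : (m.s 1 x - 1) • m.v x = 0 := by rw [sub_smul, ← h1, one_smul, sub_self]
  exact sub_eq_zero.mp ((smul_eq_zero.mp h2).resolve_right (m.ne x))

theorem MD.s_mul (g k : G) (x : m.X) : m.s (g * k) x = m.s g (k • x) * m.s k x := by
  have h1 := m.hv (g * k) x
  rw [rho_mul, m.hv k, map_smul, m.hv g, smul_smul, ← mul_smul] at h1
  have h2 : (m.s k x * m.s g (k • x) - m.s (g * k) x) • m.v ((g * k) • x) = 0 := by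
    rw [sub_smul, h1, sub_self]
  rw [← sub_eq_zero.mp ((smul_eq_zero.mp h2).resolve_right (m.ne _)), mul_comm]

theorem MD.s_ne (g : G) (x : m.X) : m.s g x ≠ 0 := by
  intro h0
  have h1 := m.hv g x
  rw [h0, zero_smul] at h1
  have := ρ.inv_self_apply g (m.v x)
  rw [h1, map_zero] at this
  exact m.ne x this.symm

theorem MD.s_cases (g : G) (x : m.X) : m.s g x = 1 ∨ m.s g x = -1 :=
  (zmod3_cases (m.s g x)).resolve_left (m.s_ne g x)

theorem MD.s_sq (g : G) (x : m.X) : m.s g x * m.s g x = 1 := by
  rcases m.s_cases g x with h | h <;> rw [h] <;> decide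

theorem MD.s_cj (g k : G) (x : m.X) (hk : k • x = x) : m.s (cj g k) (g • x) = m.s k x := by
  have h1 := m.s_mul (cj g k) g x
  have h2 : cj g k * g = g * k := by unfold cj; group
  rw [h2, m.s_mul, hk] at h1
  have h3 : m.s g x * m.s k x = m.s g x * m.s (cj g k) (g • x) := by rw [h1, mul_comm]
  exact (mul_left_cancel₀ (m.s_ne g x) h3).symm

theorem MD.s_comm (g k : G) (x : m.X) (hgk : g * k = k * g) (hk : ∀ y : m.X, k • y = y) :
    m.s k (g • x) = m.s k x := by
  have h1 : cj g k = k := by unfold cj; rw [hgk, mul_inv_cancel_right]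
  have h2 := m.s_cj g k x (hk x)
  rwa [h1] at h2

theorem MD.eq_of (g k : G) (h1 : ∀ x : m.X, g • x = k • x) (h2 : ∀ x : m.X, m.s g x = m.s k x) :
    g = k := by
  have h3 : g⁻¹ * k = 1 := by
    apply m.faith
    intro x
    rw [rho_mul, m.hv k, ← h1, ← h2, ← m.hv g, ρ.inv_self_apply]
  exact inv_mul_eq_one.mp h3

theorem MD.prod_R (h : CS ρ R b) [Fintype m.X] {r : G} (hr : r ∈ R) : ∏ x : m.X, m.s r x = 1 := by
  let φ : G →* ZMod 3 :=
    { toFun := fun g => ∏ x : m.X, m.s g x
      map_one' := by
        apply Finset.prod_eq_one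
        intro x _
        exact m.s_one x
      map_mul' := by
        intro g k
        simp only [m.s_mul]
        rw [Finset.prod_mul_distrib]
        congr 1
        exact Equiv.prod_comp (MulAction.toPerm k) (fun x => m.s g x) }
  have h1 := h.hom_trivial φ.toHomUnits r hr
  exact congrArg Units.val h1

theorem MD.sign_R (h : CS ρ R b) [Fintype m.X] [DecidableEq m.X] {r : G} (hr : r ∈ R) :
    Equiv.Perm.sign (MulAction.toPermHom G m.X r) = 1 :=
  h.hom_trivial ((Equiv.Perm.sign (α := m.X)).comp (MulAction.toPermHom G m.X)) r hr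

theorem MD.cube [Finite G] (h : CS ρ R b) {r : G} (hr : r ∈ R)
    (h3 : (MulAction.toPermHom G m.X r) ^ 3 = 1) : ∀ x : m.X, r • x = x := by
  have h1 : r ^ Nat.card R = 1 := by
    have := pow_card_eq_one' (x := (⟨r, hr⟩ : R))
    exact congrArg Subtype.val this
  have h2 : (MulAction.toPermHom G m.X r) ^ Nat.card R = 1 := by rw [← map_pow, h1, map_one]
  have h4 : orderOf (MulAction.toPermHom G m.X r) = 1 := by
    apply Nat.eq_one_of_dvd_coprimes (a := 3) (b := Nat.card R)
    · rw [Nat.Prime.coprime_iff_not_dvd Nat.prime_three]; exact h.r3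
    · exact orderOf_dvd_of_pow_eq_one h3
    · exact orderOf_dvd_of_pow_eq_one h2
  rw [orderOf_eq_one_iff] at h4
  intro x
  exact Equiv.congr_fun h4 x

theorem MD.card_le [Finite G] [Group.IsSolvable G] (h : CS ρ R b) : Nat.card m.X ≤ 4 :=
  perm_small b m.x₁ (b • m.x₁) (b • b • m.x₁) rfl rfl m.b3 m.b1.symm m.bx
    (fun N hN hb => h.eq_top hN hb)

theorem MD.n12 : m.x₁ ≠ b • m.x₁ := m.b1.symm
theorem MD.n23 : b • m.x₁ ≠ b • b • m.x₁ := fun h => m.b1 (MulAction.injective b h).symm
theorem MD.n13 : m.x₁ ≠ b • b • m.x₁ := by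
  intro h
  apply m.b1
  conv_lhs => rw [h]
  exact m.b3

theorem MD.three_le : 3 ≤ Nat.card m.X := by
  classical
  have := Fintype.ofFinite m.X
  rw [Nat.card_eq_fintype_card]
  have h1 : ({m.x₁, b • m.x₁, b • b • m.x₁} : Finset m.X).card = 3 := by
    rw [Finset.card_eq_three]
    exact ⟨_, _, _, m.n12, m.n13, m.n23, rfl⟩
  rw [← h1]
  exact Finset.card_le_univ _

-- the values of `t^b`
theorem MD.u1 : m.s (cj b m.t) m.x₁ = -1 := by
  have h1 := m.s_cj b m.t (b • b • m.x₁) (m.tx _)
  rw [m.b3, m.s3] at h1
  exact h1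
theorem MD.u2 : m.s (cj b m.t) (b • m.x₁) = 1 := by
  rw [m.s_cj b m.t _ (m.tx _), m.s1]
theorem MD.u3 : m.s (cj b m.t) (b • b • m.x₁) = -1 := by
  rw [m.s_cj b m.t _ (m.tx _), m.s2]

theorem MD.tt (x : m.X) : m.s (m.t * cj b m.t) x = m.s m.t x * m.s (cj b m.t) x := by
  rw [m.s_mul, m.tx' x]

theorem MD.t1R (h : CS ρ R b) : cj b m.t ∈ R := cj_mem h.nor b m.tR

theorem MD.case3 [Finite G] (h : CS ρ R b) (hX : Nat.card m.X = 3) :
    Cfsg.IsElementaryAbelian 2 R ∧ Nat.card R = 4 := by
  classical
  have := Fintype.ofFinite m.X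
  have hX' : Fintype.card m.X = 3 := by rw [← Nat.card_eq_fintype_card, hX]
  have hfix : ∀ r ∈ R, ∀ x : m.X, r • x = x := by
    intro r hr
    exact m.cube h hr (perm3 hX' _ (m.sign_R h hr))
  have hcard3 : ({m.x₁, b • m.x₁, b • b • m.x₁} : Finset m.X).card = 3 := by
    rw [Finset.card_eq_three]
    exact ⟨_, _, _, m.n12, m.n13, m.n23, rfl⟩
  have huniv : (Finset.univ : Finset m.X) = {m.x₁, b • m.x₁, b • b • m.x₁} := by
    symm
    rw [Finset.eq_univ_iff_forall]
    intro x
    have h1 : ({m.x₁, b • m.x₁, b • b • m.x₁} : Finset m.X) = Finset.univ := by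
      rw [← Finset.card_eq_iff_eq_univ, hcard3, hX']
    rw [h1]
    exact Finset.mem_univ x
  have hcov : ∀ x : m.X, x = m.x₁ ∨ x = b • m.x₁ ∨ x = b • b • m.x₁ := by
    intro x
    have : x ∈ (Finset.univ : Finset m.X) := Finset.mem_univ x
    rw [huniv] at this
    simpa using this
  have hprod : ∀ r ∈ R, m.s r m.x₁ * (m.s r (b • m.x₁) * m.s r (b • b • m.x₁)) = 1 := by
    intro r hr
    have h1 := m.prod_R h hr
    rw [huniv, Finset.prod_insert, Finset.prod_insert, Finset.prod_singleton] at h1
    · exact h1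
    · rw [Finset.mem_singleton]; exact m.n23
    · rw [Finset.mem_insert, Finset.mem_singleton]
      rintro (h2 | h2)
      · exact m.n12 h2
      · exact m.n13 h2
  have hsq : ∀ r ∈ R, r * r = 1 := by
    intro r hr
    apply m.eq_of
    · intro x; rw [mul_smul, hfix r hr, hfix r hr, one_smul]
    · intro x; rw [m.s_mul, hfix r hr, m.s_sq, m.s_one]
  refine ⟨⟨⟨⟨?_⟩⟩, ?_⟩, ?_⟩
  · rintro ⟨x, hx⟩ ⟨y, hy⟩
    apply Subtype.ext
    show x * y = y * x
    have e := hsq _ (R.mul_mem hx hy)
    calc x * y = x * (x * y * (x * y)) * y := by rw [e, mul_one]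
      _ = (x * x) * (y * x) * (y * y) := by group
      _ = y * x := by rw [hsq x hx, hsq y hy, one_mul, mul_one]
  · intro r hr; rw [pow_two]; exact hsq r hr
  · -- the order
    let S : Finset G := {1, m.t, cj b m.t, m.t * cj b m.t}
    have hS : (R : Set G) = S := by
      ext r
      constructor
      · intro hr
        have hp := hprod r hr
        have key : ∀ g ∈ R, (m.s r m.x₁ = m.s g m.x₁ → m.s r (b • m.x₁) = m.s g (b • m.x₁) →
            m.s r (b • b • m.x₁) = m.s g (b • b • m.x₁) → r = g) := by
          intro g hg e1 e2 e3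
          apply m.eq_of
          · intro x; rw [hfix r hr, hfix g hg]
          · intro x
            rcases hcov x with rfl | rfl | rfl
            · exact e1
            · exact e2
            · exact e3
        show r ∈ S
        simp only [S, Finset.mem_insert, Finset.mem_singleton]
        rcases m.s_cases r m.x₁ with h1 | h1 <;> rcases m.s_cases r (b • m.x₁) with h2 | h2 <;>
          rw [h1, h2] at hp
        · left
          apply key 1 R.one_mem
          · rw [h1, m.s_one]
          · rw [h2, m.s_one]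
          · rw [m.s_one]
            simpa using hp
        · right; left
          apply key m.t m.tR
          · rw [h1, m.s1]
          · rw [h2, m.s2]
          · rw [m.s3]
            rcases m.s_cases r (b • b • m.x₁) with h3 | h3
            · rw [h3] at hp; exact absurd hp (by decide)
            · exact h3
        · right; right; left
          apply key _ (m.t1R h)
          · rw [h1, m.u1]
          · rw [h2, m.u2]
          · rw [m.u3]
            rcases m.s_cases r (b • b • m.x₁) with h3 | h3
            · rw [h3] at hp; exact absurd hp (by decide)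
            · exact h3
        · right; right; right
          apply key _ (R.mul_mem m.tR (m.t1R h))
          · rw [h1, m.tt, m.s1, m.u1]; decide
          · rw [h2, m.tt, m.s2, m.u2]; decide
          · rw [m.tt, m.s3, m.u3]
            rcases m.s_cases r (b • b • m.x₁) with h3 | h3
            · rw [h3]; decide
            · rw [h3] at hp; exact absurd hp (by decide)
      · intro hr
        have hr' : r ∈ S := hr
        simp only [S, Finset.mem_insert, Finset.mem_singleton] at hr'
        rcases hr' with rfl | rfl | rfl | rfl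
        · exact R.one_mem
        · exact m.tR
        · exact m.t1R h
        · exact R.mul_mem m.tR (m.t1R h)
    have hScard : S.card = 4 := by
      apply le_antisymm Finset.card_le_four
      have h1 : (S.image (fun g => (m.s g m.x₁, m.s g (b • m.x₁)))).card = 4 := by
        simp only [S, Finset.image_insert, Finset.image_singleton, m.s_one, m.s1, m.s2, m.u1, m.u2, m.tt]
        decide
      rw [← h1]
      exact Finset.card_image_le
    have h1 : Nat.card R = Nat.card (R : Set G) := rfl
    rw [h1, hS, Nat.card_coe_set_eq, Set.ncard_coe_finset, hScard]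

end

end Cfsg.Agent.H587.Cubic
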