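import Mathlib
import Cfsg.Agent.H587.CubicL

/-!
# S4415, part M: the structure of `R` in degree four
-/

set_option autoImplicit false
set_option linter.unusedSectionVars false
set_option linter.unusedVariables false

namespace Cfsg.Agent.H587.Cubic

open Module
open scoped commutatorElement

universe u w

section

variable {G : Type u} [Group G] {E : Type w} [AddCommGroup E] [Module (ZMod 3) E] [Finite E]
variable {ρ : Representation (ZMod 3) G E} {R : Subgroup G} {b : G}
variable (m : MD ρ R b)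

/-- The kernel of `R` on the lines. -/
def MD.D : Subgroup G where
  carrier := {r | r ∈ R ∧ ∀ x : m.X, r • x = x}
  one_mem' := ⟨R.one_mem, fun x => one_smul _ x⟩
  mul_mem' := by
    rintro a c ⟨h1, h2⟩ ⟨h3, h4⟩
    exact ⟨R.mul_mem h1 h3, fun x => by rw [mul_smul, h4, h2]⟩
  inv_mem' := by
    rintro a ⟨h1, h2⟩
    exact ⟨R.inv_mem h1, fun x => by rw [inv_smul_eq_iff, h2]⟩

theorem MD.D_sq {r : G} (hr : r ∈ m.D) : r * r = 1 := by
  apply m.eq_of
  · intro x; rw [mul_smul, hr.2, hr.2, one_smul]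
  · intro x; rw [m.s_mul, hr.2, m.s_sq, m.s_one]

theorem MD.D_elem : Cfsg.IsElementaryAbelian 2 m.D := by
  refine ⟨⟨⟨?_⟩⟩, ?_⟩
  · rintro ⟨x, hx⟩ ⟨y, hy⟩
    apply Subtype.ext
    show x * y = y * x
    have e := m.D_sq (m.D.mul_mem hx hy)
    calc x * y = x * (x * y * (x * y)) * y := by rw [e, mul_one]
      _ = (x * x) * (y * x) * (y * y) := by group
      _ = y * x := by rw [m.D_sq hx, m.D_sq hy, one_mul, mul_one]
  · intro r hr; rw [pow_two]; exact m.D_sq hr

theorem MD.case4 [Finite G] (h : CS ρ R b) (hX : Nat.card m.X = 4) :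
    Cfsg.IsExtraspecial 2 R ∧ Nat.card R = 32 ∧
      ∃ A : Subgroup G, A ≤ R ∧ Cfsg.IsElementaryAbelian 2 A ∧ Nat.card A = 8 := by
  classical
  have := Fintype.ofFinite m.X
  have hX' : Fintype.card m.X = 4 := by rw [← Nat.card_eq_fintype_card, hX]
  have hRn := h.nor
  -- the fourth point
  have hcard3 : ({m.x₁, b • m.x₁, b • b • m.x₁} : Finset m.X).card = 3 := by
    rw [Finset.card_eq_three]
    exact ⟨_, _, _, m.n12, m.n13, m.n23, rfl⟩
  obtain ⟨x₄, hx₄⟩ : ∃ x : m.X, x ∉ ({m.x₁, b • m.x₁, b • b • m.x₁} : Finset m.X) := by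
    by_contra hcon
    push Not at hcon
    have h1 : ({m.x₁, b • m.x₁, b • b • m.x₁} : Finset m.X) = Finset.univ := by
      rw [Finset.eq_univ_iff_forall]; exact hcon
    rw [h1, Finset.card_univ, hX'] at hcard3
    omega
  have hfour : ∀ a c d f : m.X, a ≠ c → a ≠ d → a ≠ f → c ≠ d → c ≠ f → d ≠ f →
      (Finset.univ : Finset m.X) = {a, c, d, f} := by
    intro a c d f h1 h2 h3 h4 h5 h6
    symm
    rw [← Finset.card_eq_iff_eq_univ, hX']
    rw [Finset.card_insert_of_notMem, Finset.card_insert_of_notMem, Finset.card_insert_of_notMem,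
      Finset.card_singleton]
    · simpa using h6
    · simp only [Finset.mem_insert, Finset.mem_singleton, not_or]; exact ⟨h4, h5⟩
    · simp only [Finset.mem_insert, Finset.mem_singleton, not_or]; exact ⟨h1, h2, h3⟩
  have hprod4 : ∀ (F : m.X → ZMod 3) (a c d f : m.X), a ≠ c → a ≠ d → a ≠ f → c ≠ d → c ≠ f → d ≠ f →
      ∏ x : m.X, F x = F a * (F c * (F d * F f)) := by
    intro F a c d f h1 h2 h3 h4 h5 h6
    rw [hfour a c d f h1 h2 h3 h4 h5 h6, Finset.prod_insert, Finset.prod_insert, Finset.prod_insert,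
      Finset.prod_singleton]
    · simpa using h6
    · simp only [Finset.mem_insert, Finset.mem_singleton, not_or]; exact ⟨h4, h5⟩
    · simp only [Finset.mem_insert, Finset.mem_singleton, not_or]; exact ⟨h1, h2, h3⟩
  simp only [Finset.mem_insert, Finset.mem_singleton, not_or] at hx₄
  have h41 : x₄ ≠ m.x₁ := hx₄.1
  have h42 : x₄ ≠ b • m.x₁ := hx₄.2.1
  have h43 : x₄ ≠ b • b • m.x₁ := hx₄.2.2
  have hcov : ∀ x : m.X, x = m.x₁ ∨ x = b • m.x₁ ∨ x = b • b • m.x₁ ∨ x = x₄ := by
    intro x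
    have : x ∈ (Finset.univ : Finset m.X) := Finset.mem_univ x
    rw [hfour _ _ _ _ m.n12 m.n13 h41.symm m.n23 h42.symm h43.symm] at this
    simpa using this
  have hprod : ∀ r ∈ R, m.s r m.x₁ * (m.s r (b • m.x₁) * (m.s r (b • b • m.x₁) * m.s r x₄)) = 1 := by
    intro r hr
    rw [← hprod4 (m.s r) _ _ _ _ m.n12 m.n13 h41.symm m.n23 h42.symm h43.symm]
    exact m.prod_R h hr
  -- the permutations
  have hinvol : ∀ r ∈ R, (MulAction.toPermHom G m.X r) ^ 2 = 1 := by
    intro r hr
    rcases perm4 hX' _ (m.sign_R h hr) with h1 | h1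
    · exact h1
    · have h2 := m.cube h hr h1
      have h3 : MulAction.toPermHom G m.X r = 1 := Equiv.ext h2
      rw [h3, one_pow]
  have hinv : ∀ r ∈ R, ∀ x : m.X, r • r • x = x := by
    intro r hr x
    have h1 := Equiv.congr_fun (hinvol r hr) x
    exact h1
  have hfpf : ∀ r ∈ R, (∃ x : m.X, r • x = x) → ∀ x : m.X, r • x = x := by
    intro r hr hx x
    have h1 := perm4' hX' _ (m.sign_R h hr) (hinvol r hr) hx
    exact Equiv.congr_fun h1 x
  -- transitivity of `R`
  have hbx4 : b • x₄ = x₄ := m.bx x₄ h41 h42 h43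
  have htr : ∀ y : m.X, ∃ r ∈ R, r • x₄ = y := by
    intro y
    obtain ⟨g, hg⟩ := MulAction.exists_smul_eq G x₄ y
    have hg' : g ∈ R ⊔ Subgroup.zpowers b := by rw [h.gen]; trivial
    rw [Subgroup.mem_sup_of_normal_left] at hg'
    obtain ⟨r, hr, c, hc, rfl⟩ := hg'
    refine ⟨r, hr, ?_⟩
    have hc' : Subgroup.zpowers b ≤ MulAction.stabilizer G x₄ := by
      rw [Subgroup.zpowers_le]; exact hbx4
    have h1 : c • x₄ = x₄ := hc' hc
    rw [mul_smul, h1] at hg
    exact hg
  obtain ⟨r₀, hr₀, hr₀4⟩ := htr m.x₁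
  have hr₀1 : r₀ • m.x₁ = x₄ := by rw [← hr₀4]; exact hinv r₀ hr₀ x₄
  have hr₀nf : ∀ x : m.X, r₀ • x ≠ x := by
    intro x hx
    have := hfpf r₀ hr₀ ⟨x, hx⟩ m.x₁
    rw [hr₀1] at this
    exact h41 this
  have hr₀2 : r₀ • (b • m.x₁) = b • b • m.x₁ := by
    rcases hcov (r₀ • (b • m.x₁)) with h1 | h1 | h1 | h1
    · exfalso
      exact h42 (MulAction.injective r₀ (h1.trans hr₀4.symm)).symm
    · exact absurd h1 (hr₀nf _)
    · exact h1
    · exfalso
      exact m.b1 (MulAction.injective r₀ (h1.trans hr₀1.symm))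
  have hr₀3 : r₀ • (b • b • m.x₁) = b • m.x₁ := by rw [← hr₀2]; exact hinv r₀ hr₀ _
  -- signs at the fourth point
  have hs4 : m.s m.t x₄ = 1 := by
    have h1 := hprod m.t m.tR
    rw [m.s1, m.s2, m.s3] at h1
    rcases m.s_cases m.t x₄ with h2 | h2
    · exact h2
    · rw [h2] at h1; exact absurd h1 (by decide)
  have hu4 : m.s (cj b m.t) x₄ = 1 := by
    have h1 := hprod _ (m.t1R h)
    rw [m.u1, m.u2, m.u3] at h1
    rcases m.s_cases (cj b m.t) x₄ with h2 | h2
    · exact h2
    · rw [h2] at h1; exact absurd h1 (by decide)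
  -- the central involution
  obtain ⟨w, hw⟩ : ∃ w, w = cj r₀ (cj b m.t) := ⟨_, rfl⟩
  have hwR : w ∈ R := by rw [hw]; exact cj_mem hRn r₀ (m.t1R h)
  have hwx : ∀ x : m.X, w • x = x := by
    intro x
    rw [hw]
    unfold cj
    rw [mul_smul, mul_smul]
    have h1 := m.tx' (r₀⁻¹ • x)
    unfold cj at h1
    rw [h1, smul_inv_smul]
  have hw1 : m.s w m.x₁ = 1 := by
    have h1 := m.s_cj r₀ (cj b m.t) x₄ (m.tx' _)
    rw [hr₀4, ← hw, hu4] at h1
    exact h1
  have hw2 : m.s w (b • m.x₁) = -1 := by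
    have h1 := m.s_cj r₀ (cj b m.t) (b • b • m.x₁) (m.tx' _)
    rw [hr₀3, ← hw, m.u3] at h1
    exact h1
  have hw3 : m.s w (b • b • m.x₁) = 1 := by
    have h1 := m.s_cj r₀ (cj b m.t) (b • m.x₁) (m.tx' _)
    rw [hr₀2, ← hw, m.u2] at h1
    exact h1
  have hw4 : m.s w x₄ = -1 := by
    have h1 := m.s_cj r₀ (cj b m.t) m.x₁ (m.tx' _)
    rw [hr₀1, ← hw, m.u1] at h1
    exact h1
  obtain ⟨z, hz⟩ : ∃ z, z = cj b m.t * w := ⟨_, rfl⟩
  have hzR : z ∈ R := by rw [hz]; exact R.mul_mem (m.t1R h) hwR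
  have hzx : ∀ x : m.X, z • x = x := by
    intro x; rw [hz, mul_smul, hwx, m.tx']
  have hzs : ∀ x : m.X, m.s z x = -1 := by
    intro x
    rw [hz, m.s_mul, hwx]
    rcases hcov x with rfl | rfl | rfl | rfl
    · rw [m.u1, hw1]; decide
    · rw [m.u2, hw2]; decide
    · rw [m.u3, hw3]; decide
    · rw [hu4, hw4]; decide
  have hzc : ∀ g, g * z = z * g := by
    intro g
    apply m.eq_of
    · intro x; rw [mul_smul, mul_smul, hzx, hzx]
    · intro x; rw [m.s_mul, m.s_mul, hzx, hzs, hzs, mul_comm]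
  have hzD : z ∈ m.D := ⟨hzR, hzx⟩
  have hz2 : z * z = 1 := m.D_sq hzD
  have hz1 : z ≠ 1 := by
    intro h1
    have h2 := hzs x₄
    rw [h1, m.s_one] at h2
    exact absurd h2 (by decide)
  have hscal : ∀ r : G, (∀ x : m.X, r • x = x) → (∀ x : m.X, m.s r x = m.s r x₄) → r = 1 ∨ r = z := by
    intro r h1 h2
    rcases m.s_cases r x₄ with h3 | h3
    · left
      apply m.eq_of
      · intro x; rw [h1, one_smul]
      · intro x; rw [h2, h3, m.s_one]
    · right
      apply m.eq_of
      · intro x; rw [h1, hzx]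
      · intro x; rw [h2, h3, hzs]
  -- squares
  have hsq : ∀ r ∈ R, r * r = 1 ∨ r * r = z := by
    intro r hr
    by_cases hf : ∃ x : m.X, r • x = x
    · left; exact m.D_sq ⟨hr, hfpf r hr hf⟩
    have hnf : ∀ x : m.X, r • x ≠ x := fun x hx => hf ⟨x, hx⟩
    apply hscal
    · intro x; rw [mul_smul]; exact hinv r hr x
    · intro y
      rw [m.s_mul, m.s_mul]
      by_cases hy4 : y = x₄
      · rw [hy4]
      by_cases hyr : y = r • x₄
      · rw [hyr, hinv r hr, mul_comm]
      have e := hprod4 (m.s r) x₄ (r • x₄) y (r • y) (hnf x₄).symm (fun h1 => hy4 h1.symm)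
        (by
          intro h1
          apply hyr
          rw [h1]; exact (hinv r hr y).symm) (fun h1 => hyr h1.symm)
        (by
          intro h1
          exact hy4 (MulAction.injective r h1).symm) (hnf y).symm
      rw [m.prod_R h hr] at e
      rcases m.s_cases r x₄ with c1 | c1 <;> rcases m.s_cases r (r • x₄) with c2 | c2 <;>
        rcases m.s_cases r y with c3 | c3 <;> rcases m.s_cases r (r • y) with c4 | c4 <;>
        rw [c1, c2, c3, c4] at e ⊢ <;> first | decide | (exact absurd e (by decide))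
  -- the centre
  have hctr : ∀ c ∈ R, (∀ r ∈ R, r * c = c * r) → c = 1 ∨ c = z := by
    intro c hc hcc
    have h1 := m.s_comm c m.t x₄ (hcc m.t m.tR).symm m.tx
    have h2 := m.s_comm c (cj b m.t) x₄ (hcc _ (m.t1R h)).symm m.tx'
    have h3 : c • x₄ = x₄ := by
      rcases hcov (c • x₄) with h4 | h4 | h4 | h4
      · rw [h4, m.u1, hu4] at h2; exact absurd h2 (by decide)
      · rw [h4, m.s2, hs4] at h1; exact absurd h1 (by decide)
      · rw [h4, m.s3, hs4] at h1; exact absurd h1 (by decide)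
      · exact h4
    have h5 := hfpf c hc ⟨x₄, h3⟩
    apply hscal c h5
    intro x
    obtain ⟨r, hr, rfl⟩ := htr x
    exact m.s_comm r c x₄ (hcc r hr) h5
  -- the order of `D`
  let S : Finset G := {1, m.t, cj b m.t, m.t * cj b m.t, z, z * m.t, z * cj b m.t, z * (m.t * cj b m.t)}
  have htD : m.t ∈ m.D := ⟨m.tR, m.tx⟩
  have huD : cj b m.t ∈ m.D := ⟨m.t1R h, m.tx'⟩
  have hzt : ∀ g ∈ m.D, ∀ x : m.X, m.s (z * g) x = - m.s g x := by
    intro g hg x
    rw [m.s_mul, hg.2, hzs, neg_one_mul]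
  have hS : (m.D : Set G) = S := by
    ext r
    constructor
    · intro hr
      have hp := hprod r hr.1
      have key : ∀ g ∈ m.D, (m.s r m.x₁ = m.s g m.x₁ → m.s r (b • m.x₁) = m.s g (b • m.x₁) →
          m.s r (b • b • m.x₁) = m.s g (b • b • m.x₁) → r = g) := by
        intro g hg e1 e2 e3
        have hpg := hprod g hg.1
        have e4 : m.s r x₄ = m.s g x₄ := by
          rw [e1, e2, e3] at hp
          have h1 := hp.trans hpg.symm
          exact mul_left_cancel₀ (m.s_ne _ _) (mul_left_cancel₀ (m.s_ne _ _)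
            (mul_left_cancel₀ (m.s_ne _ _) h1))
        apply m.eq_of
        · intro x; rw [hr.2, hg.2]
        · intro x
          rcases hcov x with rfl | rfl | rfl | rfl
          · exact e1
          · exact e2
          · exact e3
          · exact e4
      show r ∈ S
      simp only [S, Finset.mem_insert, Finset.mem_singleton]
      rcases m.s_cases r m.x₁ with h1 | h1 <;> rcases m.s_cases r (b • m.x₁) with h2 | h2 <;>
        rcases m.s_cases r (b • b • m.x₁) with h3 | h3
      · left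
        exact key 1 m.D.one_mem (by rw [h1, m.s_one]) (by rw [h2, m.s_one]) (by rw [h3, m.s_one])
      · right; right; right; right; right; right; right
        have hm := m.D.mul_mem htD huD
        exact key _ (m.D.mul_mem hzD hm)
          (by rw [h1, hzt _ hm, m.tt, m.s1, m.u1]; decide)
          (by rw [h2, hzt _ hm, m.tt, m.s2, m.u2]; decide)
          (by rw [h3, hzt _ hm, m.tt, m.s3, m.u3]; decide)
      · right; right; right; right; right; right; left
        exact key _ (m.D.mul_mem hzD huD)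
          (by rw [h1, hzt _ huD, m.u1]; decide)
          (by rw [h2, hzt _ huD, m.u2])
          (by rw [h3, hzt _ huD, m.u3]; decide)
      · right; left
        exact key _ htD (by rw [h1, m.s1]) (by rw [h2, m.s2]) (by rw [h3, m.s3])
      · right; right; right; right; right; left
        exact key _ (m.D.mul_mem hzD htD)
          (by rw [h1, hzt _ htD, m.s1])
          (by rw [h2, hzt _ htD, m.s2]; decide)
          (by rw [h3, hzt _ htD, m.s3]; decide)
      · right; right; left
        exact key _ huD (by rw [h1, m.u1]) (by rw [h2, m.u2]) (by rw [h3, m.u3])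
      · right; right; right; left
        exact key _ (m.D.mul_mem htD huD)
          (by rw [h1, m.tt, m.s1, m.u1]; decide)
          (by rw [h2, m.tt, m.s2, m.u2]; decide)
          (by rw [h3, m.tt, m.s3, m.u3]; decide)
      · right; right; right; right; left
        exact key _ hzD (by rw [h1, hzs]) (by rw [h2, hzs]) (by rw [h3, hzs])
    · intro hr
      have hr' : r ∈ S := hr
      simp only [S, Finset.mem_insert, Finset.mem_singleton] at hr'
      have hm := m.D.mul_mem htD huD
      rcases hr' with rfl | rfl | rfl | rfl | rfl | rfl | rfl | rfl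
      · exact m.D.one_mem
      · exact htD
      · exact huD
      · exact hm
      · exact hzD
      · exact m.D.mul_mem hzD htD
      · exact m.D.mul_mem hzD huD
      · exact m.D.mul_mem hzD hm
  have hScard : S.card = 8 := by
    apply le_antisymm
    · refine (Finset.card_insert_le _ _).trans ?_
      refine Nat.succ_le_succ ((Finset.card_insert_le _ _).trans ?_)
      refine Nat.succ_le_succ ((Finset.card_insert_le _ _).trans ?_)
      refine Nat.succ_le_succ ((Finset.card_insert_le _ _).trans ?_)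
      exact Nat.succ_le_succ Finset.card_le_four
    · have hm := m.D.mul_mem htD huD
      have h1 : (S.image (fun g => (m.s g m.x₁, m.s g (b • m.x₁), m.s g (b • b • m.x₁)))).card = 8 := by
        simp only [S, Finset.image_insert, Finset.image_singleton, hzt _ htD, hzt _ huD, hzt _ hm,
          m.s_one, m.s1, m.s2, m.s3, m.u1, m.u2, m.u3, m.tt, hzs]
        decide
      rw [← h1]
      exact Finset.card_image_le
  have hDcard : Nat.card m.D = 8 := by
    have h1 : Nat.card m.D = Nat.card (m.D : Set G) := rfl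
    rw [h1, hS, Nat.card_coe_set_eq, Set.ncard_coe_finset, hScard]
  -- the order of `R`
  have hRcard : Nat.card R = 32 := by
    have h1 := MulAction.index_stabilizer R x₄
    have h2 : MulAction.orbit R x₄ = Set.univ := by
      rw [Set.eq_univ_iff_forall]
      intro y
      obtain ⟨r, hr, hry⟩ := htr y
      exact ⟨⟨r, hr⟩, hry⟩
    rw [h2, Set.ncard_univ, hX] at h1
    have h3 := Subgroup.card_mul_index (MulAction.stabilizer R x₄)
    have h4 : Nat.card (MulAction.stabilizer R x₄) = 8 := by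
      rw [← hDcard]
      apply Nat.card_congr
      exact
        { toFun := fun r => ⟨r.1.1, r.1.2, hfpf _ r.1.2 ⟨x₄, r.2⟩⟩
          invFun := fun r => ⟨⟨r.1, r.2.1⟩, r.2.2 x₄⟩
          left_inv := fun r => rfl
          right_inv := fun r => rfl }
    rw [h1, h4] at h3
    omega
  refine ⟨?_, hRcard, m.D, fun r hr => hr.1, m.D_elem, hDcard⟩
  -- extraspecial
  have hcen : ∀ c : R, c ∈ Subgroup.center R ↔ (c : G) = 1 ∨ (c : G) = z := by
    intro c
    rw [Subgroup.mem_center_iff]
    constructor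
    · intro hc
      apply hctr c c.2
      intro r hr
      exact congrArg Subtype.val (hc ⟨r, hr⟩)
    · rintro (h1 | h1) r
      · apply Subtype.ext
        show (r : G) * c = c * r
        rw [h1, mul_one, one_mul]
      · apply Subtype.ext
        show (r : G) * c = c * r
        rw [h1]; exact hzc r
  apply Cfsg.Agent.J2.ExtQuot.isExtraspecial_two
  · apply IsPGroup.of_card (n := 5)
    rw [hRcard]; norm_num
  · have h1 : Subgroup.center R = Subgroup.zpowers (⟨z, hzR⟩ : R) := by
      ext c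
      rw [hcen]
      constructor
      · rintro (h2 | h2)
        · have : c = 1 := Subtype.ext h2
          rw [this]; exact Subgroup.one_mem _
        · have : c = ⟨z, hzR⟩ := Subtype.ext h2
          rw [this]; exact Subgroup.mem_zpowers _
      · intro hc
        have h2 : Subgroup.zpowers (⟨z, hzR⟩ : R) ≤ Subgroup.center R := by
          rw [Subgroup.zpowers_le, hcen]; exact Or.inr rfl
        exact (hcen c).mp (h2 hc)
    rw [h1, Nat.card_zpowers]
    have h2 : Fact (Nat.Prime 2) := ⟨Nat.prime_two⟩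
    apply orderOf_eq_prime
    · apply Subtype.ext
      show z ^ 2 = 1
      rw [pow_two, hz2]
    · intro h3
      exact hz1 (congrArg Subtype.val h3)
  · intro x
    rw [hcen]
    have := hsq x x.2
    rwa [← pow_two] at this
  · refine ⟨⟨cj b m.t, m.t1R h⟩, ⟨r₀, hr₀⟩, ?_⟩
    intro h1
    have h2 : cj b m.t * r₀ = r₀ * cj b m.t := congrArg Subtype.val h1
    have h3 := m.s_comm r₀ (cj b m.t) x₄ h2.symm m.tx'
    rw [hr₀4, m.u1, hu4] at h3
    exact absurd h3 (by decide)

/-- The main result for the group `R⟨b⟩`. -/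
theorem CS.main [Finite G] [Group.IsSolvable G] (h : CS ρ R b) {t : G} (hq : FG b t) (htR : t ∈ R) :
    ((Cfsg.IsElementaryAbelian 2 R ∧ Nat.card R = 4) ∨
      (Cfsg.IsExtraspecial 2 R ∧ Nat.card R = 32 ∧
        ∃ A : Subgroup G, A ≤ R ∧ Cfsg.IsElementaryAbelian 2 A ∧ Nat.card A = 8)) ∧
    ∃ F₀ F₁ : Submodule (ZMod 3) E, F₀ ⊓ F₁ = ⊥ ∧ F₀ ⊔ F₁ = ⊤ ∧
      (∀ g : G, ∀ v ∈ F₁, ρ g v = v) ∧ (∀ g : G, ∀ v ∈ F₀, ρ g v ∈ F₀) ∧
      (∀ g : G, (∀ v ∈ F₀, ρ g v = v) → g = 1) ∧
      (∀ N : Submodule (ZMod 3) E, N ≤ F₀ → (∀ g : G, ∀ v ∈ N, ρ g v ∈ N) → N = ⊥ ∨ N = F₀) := by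
  obtain ⟨A, hA1, hA2, hA3, hA4⟩ := h.exists_elem hq htR
  obtain ⟨m⟩ := h.exists_md A hA1 hA2 hA3 hA4
  refine ⟨?_, m.U, m.U', m.inf, m.sup, m.triv, m.inv, m.faithU, m.irr⟩
  have h1 := m.card_le h
  have h2 := m.three_le
  rcases (by omega : Nat.card m.X = 3 ∨ Nat.card m.X = 4) with h3 | h3
  · exact Or.inl (m.case3 h h3)
  · exact Or.inr (m.case4 h h3)

end

end Cfsg.Agent.H587.Cubic
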